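import Groth.Agent.H29Ref.DualStalk
import Groth.Agent.H06Mod.StalkExact
import Groth.Agent.H17.KoszTwist.Stalk
import Groth.Agent.H29RR.Degree
import Groth.Agent.H25Par.Rank

/-!
# Frames of modules given by functionals

Functionals `Θ i : N ⟶ O` form a frame at `q` if, up to non-zero scalars, they are coordinates on the stalk.
-/

set_option autoImplicit false
set_option linter.style.haveILetI false
universe u

open CategoryTheory CategoryTheory.Limits AlgebraicGeometry TopologicalSpace Opposite
open Groth.Agent.H06Mod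

namespace Groth.Agent.H29Free

variable {P : Scheme.{u}}

noncomputable section

theorem unitEquiv_symm_germ (q : P) {U : P.Opens} (hq : q ∈ U) (a : Γ(P, U)) :
    (H29Ref.unitEquiv q).symm ((Coh.structureModule P).presheaf.germ U q hq (a : Γ(Coh.structureModule P, U))) =
      P.presheaf.germ U q hq a := by
  rw [LinearEquiv.symm_apply_eq]
  exact H29Ref.germ_unit_eq_smul q hq a

/-- A functional evaluated on stalks. -/
def ev {N : P.Modules} (Θ : N ⟶ Coh.structureModule P) (q : P) :
    N.presheaf.stalk q →ₗ[P.presheaf.stalk q] P.presheaf.stalk q :=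
  ((H29Ref.unitEquiv q).symm : (Coh.structureModule P).presheaf.stalk q →ₗ[P.presheaf.stalk q] P.presheaf.stalk q).comp
    (stalkLin Θ q)

theorem ev_germ {N : P.Modules} (Θ : N ⟶ Coh.structureModule P) (q : P) {U : P.Opens} (hq : q ∈ U)
    (m : Γ(N, U)) : ev Θ q (N.presheaf.germ U q hq m) = P.presheaf.germ U q hq (Θ.app U m) := by
  show (H29Ref.unitEquiv q).symm (stalkLin Θ q _) = _
  rw [stalkLin_germ]
  exact unitEquiv_symm_germ q hq _

theorem ev_specializes {N : P.Modules} (Θ : N ⟶ Coh.structureModule P) {x y : P} (h : x ⤳ y)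
    (v : N.presheaf.stalk y) :
    P.presheaf.stalkSpecializes h (ev Θ y v) = ev Θ x (N.presheaf.stalkSpecializes h v) := by
  obtain ⟨U, hy, m, rfl⟩ := N.presheaf.exists_germ_eq v
  rw [ev_germ, TopCat.Presheaf.germ_stalkSpecializes_apply, TopCat.Presheaf.germ_stalkSpecializes_apply, ev_germ]

theorem stalkLin_comp {A B C : P.Modules} (a : A ⟶ B) (b : B ⟶ C) (q : P) (v : A.presheaf.stalk q) :
    stalkLin (a ≫ b) q v = stalkLin b q (stalkLin a q v) := by
  obtain ⟨U, hq, m, rfl⟩ := A.presheaf.exists_germ_eq v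
  simp only [stalkLin_germ]
  rfl

theorem stalkLin_id {A : P.Modules} (q : P) (v : A.presheaf.stalk q) : stalkLin (𝟙 A) q v = v := by
  obtain ⟨U, hq, m, rfl⟩ := A.presheaf.exists_germ_eq v
  simp only [stalkLin_germ]
  rfl

theorem stalkLin_zero {A B : P.Modules} (q : P) (v : A.presheaf.stalk q) : stalkLin (0 : A ⟶ B) q v = 0 := by
  obtain ⟨U, hq, m, rfl⟩ := A.presheaf.exists_germ_eq v
  simp only [stalkLin_germ]
  exact map_zero _

theorem stalkLin_add {A B : P.Modules} (a b : A ⟶ B) (q : P) (v : A.presheaf.stalk q) :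
    stalkLin (a + b) q v = stalkLin a q v + stalkLin b q v := by
  obtain ⟨U, hq, m, rfl⟩ := A.presheaf.exists_germ_eq v
  simp only [stalkLin_germ]
  exact map_add _ _ _

theorem stalkLin_sum {A B : P.Modules} {κ : Type*} (S : Finset κ) (a : κ → (A ⟶ B)) (q : P)
    (v : A.presheaf.stalk q) : stalkLin (∑ i ∈ S, a i) q v = ∑ i ∈ S, stalkLin (a i) q v := by
  classical
  induction S using Finset.induction_on with
  | empty => simpa using stalkLin_zero q v
  | insert i S hi ih => rw [Finset.sum_insert hi, Finset.sum_insert hi, stalkLin_add, ih]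

/-- The functionals are a frame at `q`, up to scalars. -/
def IsFrameAt {N : P.Modules} {r : ℕ} (Θ : Fin r → (N ⟶ Coh.structureModule P)) (q : P) : Prop :=
  ∃ (c : N.presheaf.stalk q ≃ₗ[P.presheaf.stalk q] (Fin r → P.presheaf.stalk q)) (s : Fin r → P.presheaf.stalk q),
    (∀ i, s i ≠ 0) ∧ ∀ v i, ev (Θ i) q v = s i * c v i

/-- Functionals of a sum of invertible subsheaves of `O`. -/
theorem exists_functionals [IsIntegral P] [IsLocallyNoetherian P] {r : ℕ} (L : Fin r → P.Modules) (hL : ∀ i, PicF.IsInvertible (L i))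
    (θ : ∀ i, L i ⟶ Coh.structureModule P) [∀ i, Mono (θ i)] {N : P.Modules} (e : N ≅ ∐ L) :
    ∃ Θ : Fin r → (N ⟶ Coh.structureModule P), (∀ q, IsFrameAt Θ q) ∧
      ∀ i q, Function.Surjective (ev (Θ i) q) → Function.Surjective (stalkLin (θ i) q) := by
  classical
  let pr : ∀ i, N ⟶ L i := fun i => e.hom ≫ Sigma.desc fun j => if h : j = i then eqToHom (congrArg L h) else 0
  let inj : ∀ i, L i ⟶ N := fun i => Sigma.ι L i ≫ e.inv
  have hip : ∀ i j, inj i ≫ pr j = if h : i = j then eqToHom (congrArg L h) else 0 := fun i j => by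
    simp only [inj, pr, Category.assoc, Iso.inv_hom_id_assoc, Sigma.ι_desc]
  have htot : ∑ i, pr i ≫ inj i = 𝟙 N := by
    rw [← cancel_epi e.inv]
    refine Sigma.hom_ext _ _ fun j => ?_
    rw [Preadditive.comp_sum, Preadditive.comp_sum, Finset.sum_eq_single j]
    · rw [Category.comp_id]
      have h1 := hip j j
      rw [dif_pos rfl, eqToHom_refl] at h1
      show Sigma.ι L j ≫ e.inv ≫ pr j ≫ inj j = Sigma.ι L j ≫ e.inv
      rw [← Category.assoc, ← Category.assoc, show (Sigma.ι L j ≫ e.inv) ≫ pr j = 𝟙 _ from h1, Category.id_comp]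
    · intro i _ hij
      show Sigma.ι L j ≫ e.inv ≫ pr i ≫ inj i = 0
      have h1 := hip j i
      rw [dif_neg (Ne.symm hij)] at h1
      rw [← Category.assoc, ← Category.assoc, show (Sigma.ι L j ≫ e.inv) ≫ pr i = 0 from h1, zero_comp]
    · simp
  refine ⟨fun i => pr i ≫ θ i, fun q => ?_, fun i q hq w => ?_⟩
  · have hb : ∀ i, Nonempty (Module.Basis (Fin 1) (P.presheaf.stalk q) ((L i).presheaf.stalk q)) := fun i => by
      obtain ⟨hfree, hfin, hr⟩ := H25Par.finrank_stalk (H29RR.rank_one_of_isInvertible (hL i)) q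
      exact ⟨Module.finBasisOfFinrankEq _ _ hr⟩
    let fr : ∀ i, (L i).presheaf.stalk q ≃ₗ[P.presheaf.stalk q] P.presheaf.stalk q := fun i =>
      (hb i).some.equivFun.trans (LinearEquiv.funUnique (Fin 1) _ _)
    let c : N.presheaf.stalk q ≃ₗ[P.presheaf.stalk q] (Fin r → P.presheaf.stalk q) :=
      LinearEquiv.ofLinearMap
        (LinearMap.pi fun i => (fr i).toLinearMap.comp (stalkLin (pr i) q))
        (∑ i, ((stalkLin (inj i) q).comp (fr i).symm.toLinearMap).comp (LinearMap.proj i))
        (by
          refine LinearMap.ext fun w => funext fun j => ?_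
          simp only [LinearMap.comp_apply, LinearMap.pi_apply, LinearMap.sum_apply, LinearMap.proj_apply,
            LinearEquiv.coe_coe, LinearMap.id_apply, map_sum]
          rw [Finset.sum_eq_single j]
          · rw [← stalkLin_comp, hip, dif_pos rfl, eqToHom_refl, stalkLin_id, LinearEquiv.apply_symm_apply]
          · intro i _ hij
            rw [← stalkLin_comp, hip, dif_neg hij, stalkLin_zero, map_zero]
          · simp)
        (by
          refine LinearMap.ext fun v => ?_
          simp only [LinearMap.comp_apply, LinearMap.pi_apply, LinearMap.sum_apply, LinearMap.proj_apply,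
            LinearEquiv.coe_coe, LinearMap.id_apply, LinearEquiv.symm_apply_apply, ← stalkLin_comp]
          rw [← stalkLin_sum, htot, stalkLin_id])
    refine ⟨c, fun i => ev (θ i) q ((fr i).symm 1), fun i h0 => ?_, fun v i => ?_⟩
    · have h1 : stalkLin (θ i) q ((fr i).symm 1) = 0 := (H29Ref.unitEquiv q).symm.map_eq_zero_iff.1 h0
      have h2 := H17.KoszTwist.stalk_injective_of_mono (θ i) q (h1.trans (map_zero _).symm)
      exact one_ne_zero ((fr i).symm.map_eq_zero_iff.1 h2)
    · have h3 : stalkLin (pr i) q v = c v i • (fr i).symm 1 := by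
        rw [← map_smul, smul_eq_mul, mul_one]
        exact ((fr i).symm_apply_apply _).symm
      show (H29Ref.unitEquiv q).symm (stalkLin (pr i ≫ θ i) q v) = _
      rw [stalkLin_comp, h3, map_smul, map_smul, smul_eq_mul, mul_comm]
      rfl
  · obtain ⟨v, hv⟩ := hq ((H29Ref.unitEquiv q).symm w)
    refine ⟨stalkLin (pr i) q v, ?_⟩
    have h4 : stalkLin (pr i ≫ θ i) q v = w := (H29Ref.unitEquiv q).symm.injective hv
    rwa [stalkLin_comp] at h4

end

end Groth.Agent.H29Free
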