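import Groth.Agent.H29Free.JetDetect
import Groth.Agent.H29Free.StalkCoord
import Groth.Agent.H06Mod.StalkPullback
import Groth.Agent.H29Omega.StalkKaehler
import Groth.Agent.H17.PrinOmega
import Groth.Agent.H17.LocusBC
import Groth.Agent.H06Wedge.Scheme
import Groth.Agent.H10Coh.Stab.ReflexivePure
import Groth.Agent.H11LefFEt.Dual
import Groth.Prelude.Def_Curv2

/-!
# Bundles killed by a curve along which differentials and the bundle are negative

If `f : P ⟶ X` is a curve on a smooth variety such that the pull-backs of the differentials and of a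
bundle `G` have frames of functionals, those of `G` each vanishing somewhere, then `G` has no sections.
-/

set_option autoImplicit false
set_option linter.style.haveILetI false
set_option maxHeartbeats 1000000
universe u

open CategoryTheory CategoryTheory.Limits AlgebraicGeometry TopologicalSpace Opposite TensorProduct
open Groth.Agent.H06Mod

namespace Groth.Agent.H29Free

attribute [local instance] Groth.Agent.H06Mod.stalkAlgebra

variable (k : Type u) [Field k] {X P : Scheme.{u}} [X.Over (Spec (CommRingCat.of k))]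
  [P.Over (Spec (CommRingCat.of k))] {f : P ⟶ X}
  (hf : f ≫ (X ↘ Spec (CommRingCat.of k)) = P ↘ Spec (CommRingCat.of k))

attribute [local instance] Curv2.stalkAlgebra

noncomputable section

/-- The stalk map as a map of algebras. -/
def stalkMapAlg (q : P) : X.presheaf.stalk (f.base q) →ₐ[k] P.presheaf.stalk q where
  toRingHom := (f.stalkMap q).hom
  commutes' c := by
    show (f.stalkMap q).hom (X.presheaf.germ ⊤ (f.base q) trivial (Coh.toGlobal (X ↘ Spec (CommRingCat.of k)) c)) =
      P.presheaf.germ ⊤ q trivial (Coh.toGlobal (P ↘ Spec (CommRingCat.of k)) c)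
    rw [Scheme.Hom.germ_stalkMap_apply]
    show P.presheaf.germ ⊤ q trivial _ = _
    congr 1
    rw [← hf]
    rfl

/-- Specialization as a map of algebras. -/
def specAlg {Z : Scheme.{u}} [Z.Over (Spec (CommRingCat.of k))] {x y : Z} (h : x ⤳ y) :
    Z.presheaf.stalk y →ₐ[k] Z.presheaf.stalk x where
  toRingHom := (Z.presheaf.stalkSpecializes h).hom
  commutes' c := by
    show (Z.presheaf.stalkSpecializes h) (Z.presheaf.germ ⊤ y trivial (Coh.toGlobal (Z ↘ Spec (CommRingCat.of k)) c)) =
      Z.presheaf.germ ⊤ x trivial (Coh.toGlobal (Z ↘ Spec (CommRingCat.of k)) c)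
    exact TopCat.Presheaf.germ_stalkSpecializes_apply _ _ h _

include hf in
theorem stalkMapAlg_spec {x y : P} (h : x ⤳ y) (a : X.presheaf.stalk (f.base y)) :
    specAlg k h (stalkMapAlg k hf y a) = stalkMapAlg k hf x (specAlg k (h.map f.continuous) a) := by
  show P.presheaf.stalkSpecializes h (f.stalkMap y a) = f.stalkMap x (X.presheaf.stalkSpecializes (h.map f.continuous) a)
  obtain ⟨U, hy, s, rfl⟩ := X.presheaf.exists_germ_eq a
  rw [Scheme.Hom.germ_stalkMap_apply, TopCat.Presheaf.germ_stalkSpecializes_apply,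
    TopCat.Presheaf.germ_stalkSpecializes_apply, Scheme.Hom.germ_stalkMap_apply]

variable {Ω : X.Modules} {d : OmegaSh.Der (X ↘ Spec (CommRingCat.of k)) Ω} (hd : OmegaSh.IsUniversal d)

/-- The differential on germs. -/
def dSt (x : X) (a : X.presheaf.stalk x) : Ω.presheaf.stalk x :=
  (H29Omega.exists_stalkEquiv d hd x).choose.symm (KaehlerDifferential.D _ _ a)

theorem dSt_germ (x : X) (U : X.Opens) (hx : x ∈ U) (s : Γ(X, U)) :
    dSt k hd x (X.presheaf.germ U x hx s) = Ω.presheaf.germ U x hx (d.app U s) := by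
  rw [dSt, LinearEquiv.symm_apply_eq]
  exact ((H29Omega.exists_stalkEquiv d hd x).choose_spec U hx s).symm

theorem dSt_mul (x : X) (a b : X.presheaf.stalk x) : dSt k hd x (a * b) = a • dSt k hd x b + b • dSt k hd x a := by
  simp only [dSt, Derivation.leibniz, map_add, map_smul]

theorem dSt_add (x : X) (a b : X.presheaf.stalk x) : dSt k hd x (a + b) = dSt k hd x a + dSt k hd x b := by
  simp only [dSt, map_add]

theorem dSt_algebraMap (x : X) (c : k) : dSt k hd x (algebraMap k (X.presheaf.stalk x) c) = 0 := by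
  show dSt k hd x (X.presheaf.germ ⊤ x trivial (Coh.toGlobal (X ↘ Spec (CommRingCat.of k)) c)) = 0
  rw [dSt_germ]
  exact (congrArg (Ω.presheaf.germ ⊤ x trivial) (d.d_app (X := op ⊤) _)).trans (map_zero _)

theorem dSt_spec {x y : X} (h : x ⤳ y) (a : X.presheaf.stalk y) :
    Ω.presheaf.stalkSpecializes h (dSt k hd y a) = dSt k hd x (specAlg k h a) := by
  obtain ⟨U, hy, s, rfl⟩ := X.presheaf.exists_germ_eq a
  rw [dSt_germ, TopCat.Presheaf.germ_stalkSpecializes_apply]
  show _ = dSt k hd x (X.presheaf.stalkSpecializes h _)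
  rw [TopCat.Presheaf.germ_stalkSpecializes_apply, dSt_germ]

theorem algebraMap_base_stalk (x : X) (c : (Spec (CommRingCat.of k)).presheaf.stalk
      ((X ↘ Spec (CommRingCat.of k)).base x)) :
    ∃ c' : k, ((X ↘ Spec (CommRingCat.of k)).stalkMap x).hom c = algebraMap k (X.presheaf.stalk x) c' := by
  obtain ⟨W, hW, c, rfl⟩ := (Spec (CommRingCat.of k)).presheaf.exists_germ_eq c
  have hWt : W = ⊤ := eq_top_iff.2 fun y _ =>
    (Subsingleton.elim (α := PrimeSpectrum k) ((X ↘ Spec (CommRingCat.of k)).base x) y) ▸ hW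
  subst hWt
  refine ⟨(Scheme.ΓSpecIso (CommRingCat.of k)).hom c, ?_⟩
  rw [Scheme.Hom.germ_stalkMap_apply]
  show _ = X.presheaf.germ ⊤ x trivial
    ((X ↘ Spec (CommRingCat.of k)).appTop ((Scheme.ΓSpecIso (CommRingCat.of k)).inv
      ((Scheme.ΓSpecIso (CommRingCat.of k)).hom c)))
  rw [Iso.hom_inv_id_apply]
  rfl

/-- The datum at a point given coordinates on the pull-back of the differentials. -/
def coordDatum (q : P) {a : ℕ}
    (c : ((Scheme.Modules.pullback f).obj Ω).presheaf.stalk q ≃ₗ[P.presheaf.stalk q] (Fin a → P.presheaf.stalk q)) :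
    JetDatum k (X.presheaf.stalk (f.base q)) (P.presheaf.stalk q) (Fin a) where
  φ := stalkMapAlg k hf q
  δ :=
    { toFun := fun t => c (pullStalk f Ω q (dSt k hd (f.base q) t))
      map_add' := fun s t => by rw [dSt_add, map_add, map_add]
      map_smul' := fun r t => by
        rw [Algebra.smul_def, dSt_mul, dSt_algebraMap, smul_zero, add_zero, pullStalk_smul, map_smul, RingHom.id_apply]
        funext i
        rw [Pi.smul_apply, Pi.smul_apply, smul_eq_mul, Algebra.smul_def]
        congr 1
        exact (stalkMapAlg k hf q).commutes r }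
  leib s t := by
    show c (pullStalk f Ω q (dSt k hd (f.base q) (s * t))) = _
    rw [dSt_mul, map_add, map_add, pullStalk_smul, pullStalk_smul, map_smul, map_smul]
    rfl
  span := by
    rw [eq_top_iff]
    intro v _
    obtain ⟨t, ht⟩ := (pullStalkLin_bijective f Ω q).2 (c.symm v)
    rw [show v = c (pullStalkLin f Ω q t) by rw [ht, LinearEquiv.apply_symm_apply]]
    clear ht
    induction t using TensorProduct.induction_on with
    | zero => simp
    | add s t hs ht => rw [map_add, map_add]; exact Submodule.add_mem _ hs ht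
    | tmul r m =>
      rw [pullStalkLin_tmul, map_smul]
      refine Submodule.smul_mem _ r ?_
      have hm := (H29Omega.exists_stalkEquiv d hd (f.base q)).choose.symm_apply_apply m
      rw [← hm]
      generalize (H29Omega.exists_stalkEquiv d hd (f.base q)).choose m = w
      have hw : w ∈ Submodule.span (X.presheaf.stalk (f.base q))
          (Set.range (KaehlerDifferential.D ((Spec (CommRingCat.of k)).presheaf.stalk
            ((X ↘ Spec (CommRingCat.of k)).base (f.base q))) (X.presheaf.stalk (f.base q)))) := by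
        rw [KaehlerDifferential.span_range_derivation]; trivial
      induction hw using Submodule.span_induction with
      | mem w hw =>
        obtain ⟨s, rfl⟩ := hw
        exact Submodule.subset_span ⟨s, rfl⟩
      | zero => simp
      | add s t _ _ hs ht => simp only [map_add]; exact Submodule.add_mem _ hs ht
      | smul s t _ ht =>
        rw [map_smul, pullStalk_smul, map_smul]
        exact Submodule.smul_mem _ _ ht
  univ := fun N _ _ D hD hk => by
    letI : Module (X.presheaf.stalk (f.base q)) N := Module.compHom N (f.stalkMap q).hom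
    haveI : IsScalarTower (X.presheaf.stalk (f.base q)) (P.presheaf.stalk q) N :=
      .of_algebraMap_smul fun _ _ => rfl
    letI : Algebra ((Spec (CommRingCat.of k)).presheaf.stalk ((X ↘ Spec (CommRingCat.of k)).base (f.base q)))
        (X.presheaf.stalk (f.base q)) := H06Mod.stalkAlgebra (X ↘ Spec (CommRingCat.of k)) (f.base q)
    letI : Module ((Spec (CommRingCat.of k)).presheaf.stalk ((X ↘ Spec (CommRingCat.of k)).base (f.base q))) N :=
      Module.compHom N (algebraMap ((Spec (CommRingCat.of k)).presheaf.stalk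
        ((X ↘ Spec (CommRingCat.of k)).base (f.base q))) (X.presheaf.stalk (f.base q)))
    haveI : IsScalarTower ((Spec (CommRingCat.of k)).presheaf.stalk ((X ↘ Spec (CommRingCat.of k)).base (f.base q)))
        (X.presheaf.stalk (f.base q)) N := .of_algebraMap_smul fun _ _ => rfl
    have hcst : ∀ c, D (algebraMap ((Spec (CommRingCat.of k)).presheaf.stalk
        ((X ↘ Spec (CommRingCat.of k)).base (f.base q))) (X.presheaf.stalk (f.base q)) c) = 0 := fun c => by
      obtain ⟨c', hc'⟩ := algebraMap_base_stalk k (f.base q) c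
      exact (congrArg D hc').trans (hk c')
    let δ : Derivation ((Spec (CommRingCat.of k)).presheaf.stalk ((X ↘ Spec (CommRingCat.of k)).base (f.base q)))
        (X.presheaf.stalk (f.base q)) N := Derivation.mk'
      { toFun := D
        map_add' := map_add D
        map_smul' := fun c t => by
          rw [Algebra.smul_def, hD, hcst, smul_zero, add_zero, RingHom.id_apply]
          rfl } fun s t => hD s t
    let L₀ : Ω.presheaf.stalk (f.base q) →ₗ[X.presheaf.stalk (f.base q)] N :=
      δ.liftKaehlerDifferential.comp (H29Omega.exists_stalkEquiv d hd (f.base q)).choose.toLinearMap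
    refine ⟨((L₀.liftBaseChange (P.presheaf.stalk q)).comp (pullStalkEquiv f Ω q).symm.toLinearMap).comp
      c.symm.toLinearMap, fun t => ?_⟩
    show D t = L₀.liftBaseChange _ ((pullStalkEquiv f Ω q).symm (c.symm (c (pullStalk f Ω q (dSt k hd (f.base q) t)))))
    rw [LinearEquiv.symm_apply_apply, show (pullStalkEquiv f Ω q).symm (pullStalk f Ω q (dSt k hd (f.base q) t)) =
      1 ⊗ₜ dSt k hd (f.base q) t by
        rw [LinearEquiv.symm_apply_eq]
        exact ((pullStalkLin_tmul f Ω q 1 _).trans (one_smul _ _)).symm,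
      LinearMap.liftBaseChange_tmul, one_smul]
    show D t = δ.liftKaehlerDifferential ((H29Omega.exists_stalkEquiv d hd (f.base q)).choose (dSt k hd (f.base q) t))
    rw [dSt, LinearEquiv.apply_symm_apply, Derivation.liftKaehlerDifferential_comp_D]
    rfl

/-- Specialization of pulled back germs. -/
theorem pullStalk_spec (M : X.Modules) {x y : P} (h : x ⤳ y) (m : M.presheaf.stalk (f.base y)) :
    ((Scheme.Modules.pullback f).obj M).presheaf.stalkSpecializes h (pullStalk f M y m) =
      pullStalk f M x (M.presheaf.stalkSpecializes (h.map f.continuous) m) := by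
  obtain ⟨U, hy, m, rfl⟩ := M.presheaf.exists_germ_eq m
  rw [pullStalk_germ, TopCat.Presheaf.germ_stalkSpecializes_apply, TopCat.Presheaf.germ_stalkSpecializes_apply,
    pullStalk_germ]

theorem stalkSpecializes_smul (M : X.Modules) {x y : X} (h : x ⤳ y) (r : X.presheaf.stalk y)
    (m : M.presheaf.stalk y) : M.presheaf.stalkSpecializes h (r • m) =
      X.presheaf.stalkSpecializes h r • M.presheaf.stalkSpecializes h m := by
  obtain ⟨U, hy, r, m, rfl, rfl⟩ := exists_germ_pair M y r m
  rw [← germ_smul, TopCat.Presheaf.germ_stalkSpecializes_apply, TopCat.Presheaf.germ_stalkSpecializes_apply,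
    TopCat.Presheaf.germ_stalkSpecializes_apply, germ_smul]

/-- A functional at a frame is a coordinate over a field. -/
theorem exists_equiv_of_frame [IsIntegral P] {N : P.Modules} {r : ℕ} (Θ : Fin r → (N ⟶ Coh.structureModule P))
    (h : IsFrameAt Θ (genericPoint P)) :
    ∃ c : N.presheaf.stalk (genericPoint P) ≃ₗ[P.presheaf.stalk (genericPoint P)]
        (Fin r → P.presheaf.stalk (genericPoint P)), ∀ v i, c v i = ev (Θ i) (genericPoint P) v := by
  obtain ⟨c, s, hs, hc⟩ := h
  have hu : ∀ i, IsUnit (s i) := fun i =>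
    isUnit_iff_ne_zero.2 (hs i : (s i : P.functionField) ≠ 0)
  exact ⟨c.trans (LinearEquiv.piCongrRight fun i => LinearEquiv.smulOfUnit (hu i).unit),
    fun v i => (hc v i).symm⟩

include hd in
/-- No sections. -/
theorem eq_zero_of_frames [IsAlgClosed k] [IsIntegral X] [Smooth (X ↘ Spec (CommRingCat.of k))]
    [IsIntegral P] [IsProper (P ↘ Spec (CommRingCat.of k))]
    (G : X.Modules) {r : ℕ} (hG : FlatMod.IsFinLocFreeOfRank r G)
    {a : ℕ} (ΘΩ : Fin a → ((Scheme.Modules.pullback f).obj Ω ⟶ Coh.structureModule P))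
    (hΩ : ∀ q, IsFrameAt ΘΩ q)
    {r' : ℕ} (ΘG : Fin r' → ((Scheme.Modules.pullback f).obj G ⟶ Coh.structureModule P))
    (hGf : ∀ q, IsFrameAt ΘG q)
    (hneg : ∀ i, ∃ p : P, IsClosed ({p} : Set P) ∧ ¬ Function.Surjective (ev (ΘG i) p))
    (hf : f ≫ (X ↘ Spec (CommRingCat.of k)) = P ↘ Spec (CommRingCat.of k))
    (σ : Γ(G, ⊤)) : σ = 0 := by
  classical
  haveI : IsLocallyNoetherian X := LocallyOfFiniteType.isLocallyNoetherian (X ↘ Spec (CommRingCat.of k))
  haveI : JacobsonSpace P := LocallyOfFiniteType.jacobsonSpace (P ↘ Spec (CommRingCat.of k))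
  let η := genericPoint P
  have hsp : ∀ q : P, η ⤳ q := fun q => (genericPoint_spec P).specializes (Set.mem_univ q)
  have hinj : ∀ q : P, Function.Injective (specAlg k (hsp q)) := fun q =>
    IsFractionRing.injective (P.presheaf.stalk q) P.functionField
  -- frames
  obtain ⟨cη, hcη⟩ := exists_equiv_of_frame ΘΩ (hΩ η)
  obtain ⟨gη, hgη⟩ := exists_equiv_of_frame ΘG (hGf η)
  choose cq sq hsq hcq using hΩ
  choose gq tq htq hgq using hGf
  -- bases of the stalks of `G`
  have hb : ∀ x : X, Nonempty (Module.Basis (Fin r) (X.presheaf.stalk x) (G.presheaf.stalk x)) := fun x => by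
    obtain ⟨hfree, hfin, hr⟩ := H25Par.finrank_stalk hG x
    exact ⟨Module.finBasisOfFinrankEq _ _ hr⟩
  let ε := fun x => (hb x).some
  let Lb : ∀ (q : P) (g : ((Scheme.Modules.pullback f).obj G).presheaf.stalk q ≃ₗ[P.presheaf.stalk q]
      (Fin r' → P.presheaf.stalk q)), Module.Basis (Fin r) (P.presheaf.stalk q) (Fin r' → P.presheaf.stalk q) :=
    fun q g => ((ε (f.base q)).baseChange (P.presheaf.stalk q)).map ((pullStalkEquiv f G q).trans g)
  have hLb : ∀ q g j, Lb q g j = g (pullStalk f G q (ε (f.base q) j)) := fun q g j => by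
    show g (pullStalkLin f G q ((ε (f.base q)).baseChange (P.presheaf.stalk q) j)) = _
    rw [Module.Basis.baseChange_apply, pullStalkLin_tmul, one_smul]
  have hlinB : ∀ q g (v : G.presheaf.stalk (f.base q)),
      ∑ j, (f.stalkMap q).hom ((ε (f.base q)).repr v j) • Lb q g j = g (pullStalk f G q v) := by
    intro q g v
    conv_rhs => rw [← (ε (f.base q)).sum_repr v, map_sum, map_sum]
    exact Finset.sum_congr rfl fun j _ => by rw [hLb, pullStalk_smul, map_smul]
  -- data
  let D := JetDatum.fibreDatum (coordDatum k hf hd η cη) (Lb η gη)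
  let Dp := fun p : closedPoints P => JetDatum.fibreDatum (coordDatum k hf hd p.1 (cq p.1)) (Lb p.1 (gq p.1))
  let lin : ∀ x : X, G.presheaf.stalk x → MvPolynomial (Fin r) (X.presheaf.stalk x) := fun x v =>
    ∑ j, MvPolynomial.C ((ε x).repr v j) * MvPolynomial.X j
  have hlin0 : ∀ x v, MvPolynomial.constantCoeff (lin x v) = 0 := fun x v => by simp [lin]
  have hlin1 : ∀ x v j, MvPolynomial.coeff (Finsupp.single j 1) (lin x v) = (ε x).repr v j := fun x v j => by
    simp only [lin, MvPolynomial.coeff_sum, MvPolynomial.coeff_C_mul, MvPolynomial.coeff_X]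
    rw [Finset.sum_eq_single j] <;> simp +contextual [Finsupp.single_eq_single_iff]
  let g : ∀ p : closedPoints P, MvPolynomial (Fin r) (X.presheaf.stalk (f.base p.1)) →ₐ[k]
      MvPolynomial (Fin r) (X.presheaf.stalk (f.base η)) := fun p =>
    { toRingHom := MvPolynomial.eval₂Hom
        (MvPolynomial.C.comp (specAlg k ((hsp p.1).map f.continuous)).toRingHom)
        (fun j => lin (f.base η) (G.presheaf.stalkSpecializes ((hsp p.1).map f.continuous) (ε (f.base p.1) j)))
      commutes' := fun c => by
        show MvPolynomial.eval₂ _ _ (algebraMap k (MvPolynomial (Fin r) (X.presheaf.stalk (f.base p.1))) c) = _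
        rw [IsScalarTower.algebraMap_apply k (X.presheaf.stalk (f.base p.1)) (MvPolynomial (Fin r) _),
          MvPolynomial.algebraMap_eq, MvPolynomial.eval₂_C]
        show MvPolynomial.C ((specAlg k ((hsp p.1).map f.continuous)) (algebraMap k _ c)) = _
        rw [AlgHom.commutes, ← MvPolynomial.algebraMap_eq, ← IsScalarTower.algebraMap_apply] }
  have hgC : ∀ p t, g p (MvPolynomial.C t) = MvPolynomial.C (specAlg k ((hsp p.1).map f.continuous) t) :=
    fun p t => MvPolynomial.eval₂_C _ _ _
  have hgX : ∀ p j, g p (MvPolynomial.X j) =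
      lin (f.base η) (G.presheaf.stalkSpecializes ((hsp p.1).map f.continuous) (ε (f.base p.1) j)) :=
    fun p j => MvPolynomial.eval₂_X _ _ _
  have hglin : ∀ p v, g p (lin (f.base p.1) v) =
      lin (f.base η) (G.presheaf.stalkSpecializes ((hsp p.1).map f.continuous) v) := by
    intro p v
    conv_rhs => rw [← (ε (f.base p.1)).sum_repr v, map_sum]
    simp only [lin, map_sum, map_mul, hgC, hgX, stalkSpecializes_smul, map_smul, Finsupp.coe_finset_sum,
      Finset.sum_apply, Finsupp.smul_apply, smul_eq_mul, MvPolynomial.C_mul, Finset.mul_sum]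
    rw [Finset.sum_comm]
    refine Finset.sum_congr rfl fun i _ => ?_
    simp only [map_sum, Finset.sum_mul, MvPolynomial.C_mul]
    exact Finset.sum_congr rfl fun j _ => by ring!
  let ρ : MvPolynomial (Fin r) (X.presheaf.stalk (f.base η)) →ₐ[k]
      MvPolynomial (Fin r) (X.presheaf.stalk (f.base η)) :=
    (IsScalarTower.toAlgHom k (X.presheaf.stalk (f.base η)) _).comp (JetDatum.ccAlg k _ (Fin r))
  have hρ : ∀ P', ρ P' = MvPolynomial.C (MvPolynomial.constantCoeff P') := fun P' => rfl
  have hφ : ∀ p t, specAlg k (hsp p.1) ((Dp p).φ t) = D.φ (g p t) := by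
    intro p t
    show specAlg k (hsp p.1) (stalkMapAlg k hf p.1 (MvPolynomial.constantCoeff t)) =
      stalkMapAlg k hf η (MvPolynomial.constantCoeff (g p t))
    rw [stalkMapAlg_spec]
    congr 1
    induction t using MvPolynomial.induction_on with
    | C t => rw [hgC, MvPolynomial.constantCoeff_C, MvPolynomial.constantCoeff_C]
    | add s t hs ht => simp only [map_add, hs, ht]
    | mul_X s j hs => simp [map_mul, hgX, hlin0]
  let S : Set (Fin a ⊕ Fin r') := Set.range Sum.inr
  let sc : ∀ p : closedPoints P, (Fin a ⊕ Fin r') → P.presheaf.stalk p.1 := fun p =>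
    Sum.elim (sq p.1) (tq p.1)
  have hδ : ∀ p t i, D.δ (g p t) i = specAlg k (hsp p.1) (sc p i) * specAlg k (hsp p.1) ((Dp p).δ t i) := by
    intro p t
    induction t using MvPolynomial.induction_on with
    | C t =>
      intro i
      rw [hgC]
      rcases i with i | i
      · show cη (pullStalk f Ω η (dSt k hd (f.base η) (MvPolynomial.constantCoeff (MvPolynomial.C _)))) i =
          specAlg k (hsp p.1) (sq p.1 i) * specAlg k (hsp p.1)
            (cq p.1 (pullStalk f Ω p.1 (dSt k hd (f.base p.1) (MvPolynomial.constantCoeff (MvPolynomial.C t)))) i)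
        rw [MvPolynomial.constantCoeff_C, MvPolynomial.constantCoeff_C, ← map_mul, ← hcq, hcη,
          ← dSt_spec, ← pullStalk_spec]
        exact (ev_specializes (ΘΩ i) (hsp p.1) _).symm
      · show (∑ j, _ • Lb η gη j) i = specAlg k (hsp p.1) (tq p.1 i) * specAlg k (hsp p.1) ((∑ j, _ • Lb p.1 (gq p.1) j) i)
        simp [MvPolynomial.coeff_C, eq_comm (a := (0 : Fin r →₀ ℕ))]
    | add s t hs ht =>
      intro i
      simp only [map_add, Pi.add_apply, hs, ht, mul_add]
    | mul_X s j hs =>
      intro i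
      have hX : ∀ i, D.δ (g p (MvPolynomial.X j)) i =
          specAlg k (hsp p.1) (sc p i) * specAlg k (hsp p.1) ((Dp p).δ (MvPolynomial.X j) i) := by
        intro i
        rw [hgX]
        rcases i with i | i
        · show cη (pullStalk f Ω η (dSt k hd (f.base η) (MvPolynomial.constantCoeff (lin _ _)))) i =
            specAlg k (hsp p.1) (sq p.1 i) * specAlg k (hsp p.1)
              (cq p.1 (pullStalk f Ω p.1 (dSt k hd (f.base p.1) (MvPolynomial.constantCoeff (MvPolynomial.X j)))) i)
          have h0 : ∀ x : X, dSt k hd x 0 = 0 := fun x => by rw [← map_zero (algebraMap k _), dSt_algebraMap]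
          rw [hlin0, MvPolynomial.constantCoeff_X, h0, h0, map_zero, map_zero, map_zero, map_zero, Pi.zero_apply,
            Pi.zero_apply, map_zero, mul_zero]
        · show (∑ l, stalkMapAlg k hf η (MvPolynomial.coeff (Finsupp.single l 1) (lin _ _)) • Lb η gη l) i =
            specAlg k (hsp p.1) (tq p.1 i) * specAlg k (hsp p.1)
              ((∑ l, stalkMapAlg k hf p.1 (MvPolynomial.coeff (Finsupp.single l 1) (MvPolynomial.X j)) •
                Lb p.1 (gq p.1) l) i)
          have e1 := hlinB η gη (G.presheaf.stalkSpecializes ((hsp p.1).map f.continuous) (ε (f.base p.1) j))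
          have e2 : (∑ l, stalkMapAlg k hf p.1 (MvPolynomial.coeff (Finsupp.single l 1) (MvPolynomial.X j)) •
                Lb p.1 (gq p.1) l) = gq p.1 (pullStalk f G p.1 (ε (f.base p.1) j)) := by
            rw [Finset.sum_eq_single j]
            · simp [hLb]
            · intro b _ hb
              simp [MvPolynomial.coeff_X, Finsupp.single_eq_single_iff, hb, Ne.symm hb]
            · simp
          rw [e2, ← map_mul, ← hgq]
          simp only [hlin1]
          rw [show (∑ l, stalkMapAlg k hf η ((ε (f.base η)).repr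
              (G.presheaf.stalkSpecializes ((hsp p.1).map f.continuous) (ε (f.base p.1) j)) l) • Lb η gη l) = _ from e1,
            hgη, ← pullStalk_spec]
          exact (ev_specializes (ΘG i) (hsp p.1) _).symm
      rw [map_mul, D.leib, (Dp p).leib, Pi.add_apply, Pi.add_apply, Pi.smul_apply, Pi.smul_apply, Pi.smul_apply,
        Pi.smul_apply, smul_eq_mul, smul_eq_mul, smul_eq_mul, smul_eq_mul, hs, hX, ← hφ, ← hφ, map_add,
        map_mul, map_mul]
      ring
  haveI : Algebra.FormallySmooth k (X.presheaf.stalk (f.base η)) := by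
    have h1 : ((X ↘ Spec (CommRingCat.of k)).stalkMap (f.base η)).hom.FormallySmooth :=
      (show f.base η ∈ (X ↘ Spec (CommRingCat.of k)).smoothLocus by rw [Scheme.Hom.smoothLocus_eq_top]; trivial)
    let b : k →+* (Spec (CommRingCat.of k)).presheaf.stalk ((X ↘ Spec (CommRingCat.of k)).base (f.base η)) :=
      ((Spec (CommRingCat.of k)).presheaf.germ ⊤ _ trivial).hom.comp (Scheme.ΓSpecIso (CommRingCat.of k)).inv.hom
    have hb : Function.Bijective b := by
      refine ⟨b.injective, fun c => ?_⟩
      obtain ⟨W, hW, c, rfl⟩ := (Spec (CommRingCat.of k)).presheaf.exists_germ_eq c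
      have hWt : W = ⊤ := eq_top_iff.2 fun y _ =>
        (Subsingleton.elim (α := PrimeSpectrum k) ((X ↘ Spec (CommRingCat.of k)).base (f.base η)) y) ▸ hW
      subst hWt
      exact ⟨(Scheme.ΓSpecIso (CommRingCat.of k)).hom c, congrArg _ (Iso.hom_inv_id_apply _ c)⟩
    have h2 : (((X ↘ Spec (CommRingCat.of k)).stalkMap (f.base η)).hom.comp b).FormallySmooth :=
      RingHom.FormallySmooth.comp (RingHom.FormallySmooth.of_bijective hb) h1
    have h3 : ((X ↘ Spec (CommRingCat.of k)).stalkMap (f.base η)).hom.comp b =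
        algebraMap k (X.presheaf.stalk (f.base η)) := RingHom.ext fun c => by
      show ((X ↘ Spec (CommRingCat.of k)).stalkMap (f.base η)).hom
        ((Spec (CommRingCat.of k)).presheaf.germ ⊤ _ trivial _) = _
      rw [Scheme.Hom.germ_stalkMap_apply]
      rfl
    rw [h3] at h2
    exact RingHom.formallySmooth_algebraMap.1 h2
  haveI : Algebra.FormallySmooth k (MvPolynomial (Fin r) (X.presheaf.stalk (f.base η))) :=
    Algebra.FormallySmooth.comp k (X.presheaf.stalk (f.base η)) _
  have hnegc : ∀ i ∈ S, ∀ c : P.presheaf.stalk η,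
      (∀ p : closedPoints P, ∃ e, c = specAlg k (hsp p.1) (sc p i) * specAlg k (hsp p.1) e) → c = 0 := by
    rintro _ ⟨i, rfl⟩ c hc
    choose e he using hc
    have hrep : ∀ p : closedPoints P, ∃ (U : P.Opens) (hp : p.1 ∈ U) (σ : Γ(P, U)),
        P.presheaf.germ U η ((hsp p.1).mem_open U.2 hp) σ = c ∧ P.presheaf.germ U p.1 hp σ = sc p (Sum.inr i) * e p := by
      intro p
      obtain ⟨U, hp, σ, hσ⟩ := P.presheaf.exists_germ_eq (sc p (Sum.inr i) * e p)
      refine ⟨U, hp, σ, ?_, hσ⟩
      rw [← TopCat.Presheaf.germ_stalkSpecializes_apply P.presheaf hp (hsp p.1), hσ, he p, ← map_mul]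
      rfl
    choose U hpU σ' hσ₁ hσ₂ using hrep
    have hcov : iSup U = ⊤ := by
      refine eq_top_iff.2 fun x _ => ?_
      by_contra hx
      obtain ⟨z, hz, hzc⟩ := nonempty_inter_closedPoints (Z := ((iSup U : P.Opens) : Set P)ᶜ) ⟨x, hx⟩
        (iSup U).2.isClosed_compl.isLocallyClosed
      exact hz (Opens.mem_iSup.2 ⟨⟨z, hzc⟩, hpU _⟩)
    have hcompat : TopCat.Presheaf.IsCompatible P.presheaf U σ' := fun p p' => by
      have hmem : η ∈ U p ⊓ U p' := ⟨(hsp p.1).mem_open (U p).2 (hpU p), (hsp p'.1).mem_open (U p').2 (hpU p')⟩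
      refine germ_injective_of_isIntegral P η hmem ?_
      rw [TopCat.Presheaf.germ_res_apply, TopCat.Presheaf.germ_res_apply, hσ₁, hσ₁]
    obtain ⟨τ, hτ, -⟩ := P.sheaf.existsUnique_gluing' U ⊤ (fun p => homOfLE le_top) hcov.ge σ' hcompat
    have hconst : ∃ l : k, τ = Coh.toGlobal (P ↘ Spec (CommRingCat.of k)) l := by
      haveI : Nonempty (⊤ : P.Opens) := ⟨⟨η, trivial⟩⟩
      have hfin : (P ↘ Spec (CommRingCat.of k)).appTop.hom.Finite :=
        finite_appTop_of_universallyClosed k _
      letI : Algebra k Γ(P, ⊤) := (Coh.toGlobal (P ↘ Spec (CommRingCat.of k))).toAlgebra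
      haveI : Module.Finite k Γ(P, ⊤) := RingHom.Finite.comp hfin
        (RingHom.Finite.of_surjective _ (Scheme.ΓSpecIso (CommRingCat.of k)).commRingCatIsoToRingEquiv.symm.surjective)
      obtain ⟨l, hl⟩ := (IsAlgClosed.algebraMap_bijective_of_isIntegral (k := k) (K := Γ(P, ⊤))).2 τ
      exact ⟨l, hl.symm⟩
    obtain ⟨l, rfl⟩ := hconst
    have hgerm : ∀ p : closedPoints P, algebraMap k (P.presheaf.stalk p.1) l = sc p (Sum.inr i) * e p ∧
        algebraMap k (P.presheaf.stalk η) l = c := fun p =>
      ⟨by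
        rw [← hσ₂ p, ← hτ p]
        show P.presheaf.germ ⊤ p.1 trivial (Coh.toGlobal (P ↘ Spec (CommRingCat.of k)) l) =
          P.presheaf.germ (U p) p.1 (hpU p) (P.presheaf.map (homOfLE le_top).op _)
        exact (TopCat.Presheaf.germ_res_apply P.presheaf (homOfLE le_top) p.1 (hpU p) _).symm,
        by
        rw [← hσ₁ p, ← hτ p]
        show P.presheaf.germ ⊤ η trivial (Coh.toGlobal (P ↘ Spec (CommRingCat.of k)) l) =
          P.presheaf.germ (U p) η ((hsp p.1).mem_open (U p).2 (hpU p)) (P.presheaf.map (homOfLE le_top).op _)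
        exact (TopCat.Presheaf.germ_res_apply P.presheaf (homOfLE le_top) η _ _).symm⟩
    obtain ⟨p, hp, hns⟩ := hneg i
    rw [← (hgerm ⟨p, hp⟩).2]
    by_contra hl
    have hl0 : l ≠ 0 := fun h => hl (by rw [h, map_zero])
    have hu : IsUnit (tq p i) := isUnit_of_mul_isUnit_left ((hgerm ⟨p, hp⟩).1 ▸
      ((isUnit_iff_ne_zero.2 hl0).map (algebraMap k (P.presheaf.stalk p))))
    refine hns fun w => ⟨(gq p).symm (Pi.single i ((hu.unit⁻¹ : (P.presheaf.stalk p)ˣ) * w)), ?_⟩
    rw [hgq, LinearEquiv.apply_symm_apply, Pi.single_eq_same, ← mul_assoc, IsUnit.mul_val_inv, one_mul]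
  have hρδ0 : ∀ P', ∀ i ∈ S, D.δ (ρ P') i = 0 := by
    rintro P' _ ⟨i, rfl⟩
    show (∑ l, _ • Lb η gη l) i = 0
    simp [hρ, MvPolynomial.coeff_C, eq_comm (a := (0 : Fin r →₀ ℕ))]
  have hρδ1 : ∀ P', ∀ i ∉ S, D.δ (ρ P') i = D.δ P' i := by
    intro P' i hi
    rcases i with i | i
    · show cη (pullStalk f Ω η (dSt k hd (f.base η) (MvPolynomial.constantCoeff (ρ P')))) i = _
      rw [hρ, MvPolynomial.constantCoeff_C]
      rfl
    · exact absurd ⟨i, rfl⟩ hi
  let b : ∀ p : closedPoints P, MvPolynomial (Fin r) (X.presheaf.stalk (f.base p.1)) := fun p =>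
    lin (f.base p.1) (G.presheaf.germ ⊤ (f.base p.1) trivial σ)
  have key := tmul_mem_pow D Dp (fun p => specAlg k (hsp p.1)) g sc S ρ (fun p => hinj p.1) hφ
    (fun p i => by rcases i with i | i; exacts [hsq p.1 i, htq p.1 i]) hδ
    (fun P' => by
      show stalkMapAlg k hf η (MvPolynomial.constantCoeff (ρ P')) = stalkMapAlg k hf η (MvPolynomial.constantCoeff P')
      rw [hρ, MvPolynomial.constantCoeff_C])
    hρδ0 hρδ1 hnegc b
    (lin (f.base η) (G.presheaf.germ ⊤ (f.base η) trivial σ))
    (fun p => by rw [hglin, TopCat.Presheaf.germ_stalkSpecializes_apply])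
    (by rw [hρ, hlin0, map_zero])
  -- a closed point
  obtain ⟨z, -, hzc⟩ := nonempty_inter_closedPoints (Z := (Set.univ : Set P)) ⟨η, trivial⟩ isOpen_univ.isLocallyClosed
  let χ : P.presheaf.stalk z →ₐ[k] k :=
    let hb := H06Wedge.residue_bijective_of_isClosed k P z hzc
    (AlgEquiv.ofBijective (Algebra.ofId k (IsLocalRing.ResidueField (P.presheaf.stalk z))) hb).symm.toAlgHom.comp
      (IsScalarTower.toAlgHom k (P.presheaf.stalk z) (IsLocalRing.ResidueField (P.presheaf.stalk z)))
  have hz := eq_zero_of_mem_all (Dp ⟨z, hzc⟩) χ (b ⟨z, hzc⟩) fun n => key n ⟨z, hzc⟩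
  have hgerm0 : G.presheaf.germ ⊤ (f.base z) trivial σ = 0 := by
    rw [← (ε (f.base z)).sum_repr (G.presheaf.germ ⊤ (f.base z) trivial σ)]
    refine Finset.sum_eq_zero fun j _ => ?_
    have h := congrArg (MvPolynomial.coeff (Finsupp.single j 1)) hz
    rw [hlin1, MvPolynomial.coeff_zero] at h
    rw [h, zero_smul]
  refine H10Coh.Stab.eq_zero_of_germ_generic (H11LefFEt.isReflexive_of_finLocFree (fun x => by obtain ⟨U, hx, e⟩ := hG x; exact ⟨U, r, hx, e⟩)) σ trivial ?_
  rw [← TopCat.Presheaf.germ_stalkSpecializes_apply (U := (⊤ : X.Opens)) G.presheaf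
    (show f.base z ∈ (⊤ : X.Opens) from trivial) ((genericPoint_spec X).specializes (Set.mem_univ (f.base z))) σ,
    hgerm0, map_zero]

end

end Groth.Agent.H29Free
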