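import Mathlib

/-!
# Jets of ring elements along a ring map

For a `k`-algebra map `φ : A → B` equipped with coordinates `δ : A → (ι → B)` on the pull-back of the
differentials, the powers of the augmentation ideal `J` of `B ⊗[k] A → B` are spanned by monomials in
lifts `zvar i`; if `A` is formally smooth these monomials are linearly independent modulo `J ^ (n + 1)`.
-/

set_option autoImplicit false
set_option linter.style.haveILetI false

open TensorProduct MvPolynomial

namespace Groth.Agent.H29Free

universe u v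

/-- A map with coordinates for the pulled back module of differentials. -/
structure JetDatum (k : Type u) [CommRing k] (A : Type u) [CommRing A] [Algebra k A]
    (B : Type u) [CommRing B] [Algebra k B] (ι : Type v) where
  φ : A →ₐ[k] B
  δ : A →ₗ[k] (ι → B)
  leib : ∀ a b : A, δ (a * b) = φ a • δ b + φ b • δ a
  span : Submodule.span B (Set.range δ) = ⊤
  univ : ∀ (N : Type u) [AddCommGroup N] [Module B N] (D : A →+ N),
    (∀ a b : A, D (a * b) = φ a • D b + φ b • D a) → (∀ c : k, D (algebraMap k A c) = 0) →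
      ∃ L : (ι → B) →ₗ[B] N, ∀ a, D a = L (δ a)

namespace JetDatum

variable {k A B : Type u} [CommRing k] [CommRing A] [Algebra k A] [CommRing B] [Algebra k B] {ι : Type v}
  (D : JetDatum k A B ι)

theorem δ_algebraMap (c : k) : D.δ (algebraMap k A c) = 0 := by
  have h1 : D.δ 1 = 0 := by
    have h := D.leib 1 1
    rw [mul_one, map_one D.φ, one_smul] at h
    exact left_eq_add.1 h
  rw [Algebra.algebraMap_eq_smul_one, map_smul, h1, smul_zero]

/-- The augmentation `B ⊗ A → B`. -/
noncomputable def aug : B ⊗[k] A →ₐ[B] B :=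
  Algebra.TensorProduct.lift (AlgHom.id B B) D.φ fun _ _ => mul_comm _ _

theorem aug_tmul (b : B) (a : A) : D.aug (b ⊗ₜ a) = b * D.φ a :=
  Algebra.TensorProduct.lift_tmul _ _ _ b a

/-- The augmentation ideal. -/
noncomputable def jJ : Ideal (B ⊗[k] A) := RingHom.ker D.aug

theorem mem_jJ {r : B ⊗[k] A} : r ∈ D.jJ ↔ D.aug r = 0 := Iff.rfl

/-- The `B`-linear extension of `δ`. -/
noncomputable def δbar : B ⊗[k] A →ₗ[B] (ι → B) := D.δ.liftBaseChange B

theorem δbar_tmul (b : B) (a : A) : D.δbar (b ⊗ₜ a) = b • D.δ a := D.δ.liftBaseChange_tmul B b a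

theorem δbar_surjective : Function.Surjective D.δbar := by
  rw [← LinearMap.range_eq_top, eq_top_iff, ← D.span, Submodule.span_le]
  rintro _ ⟨a, rfl⟩
  exact ⟨1 ⊗ₜ a, by rw [δbar_tmul, one_smul]⟩

theorem δbar_mul (r s : B ⊗[k] A) : D.δbar (r * s) = D.aug r • D.δbar s + D.aug s • D.δbar r := by
  induction r using TensorProduct.induction_on with
  | zero => simp
  | add r r' h h' =>
    rw [add_mul, map_add, h, h', map_add, map_add, add_smul, smul_add]
    abel
  | tmul b a =>
    induction s using TensorProduct.induction_on with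
    | zero => simp
    | add s s' h h' =>
      rw [mul_add, map_add, h, h', map_add, map_add, add_smul, smul_add]
      abel
    | tmul b' a' =>
      rw [Algebra.TensorProduct.tmul_mul_tmul, δbar_tmul, δbar_tmul, δbar_tmul, aug_tmul, aug_tmul, D.leib,
        smul_add, smul_smul, smul_smul, smul_smul, smul_smul]
      congr 2 <;> ring

theorem δbar_algebraMap (b : B) : D.δbar (algebraMap B (B ⊗[k] A) b) = 0 := by
  rw [Algebra.TensorProduct.algebraMap_apply, Algebra.algebraMap_self, RingHom.id_apply, δbar_tmul,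
    ← map_one (algebraMap k A), δ_algebraMap, smul_zero]

theorem exists_z [DecidableEq ι] (i : ι) :
    ∃ z : B ⊗[k] A, D.aug z = 0 ∧ D.δbar z = Pi.single i 1 := by
  obtain ⟨r, hr⟩ := D.δbar_surjective (Pi.single i 1)
  refine ⟨r - algebraMap B _ (D.aug r), ?_, ?_⟩
  · rw [map_sub, AlgHom.commutes, Algebra.algebraMap_self, RingHom.id_apply, sub_self]
  · rw [map_sub, δbar_algebraMap, sub_zero, hr]

/-- Chosen lifts of the coordinates. -/
noncomputable def zvar [DecidableEq ι] (i : ι) : B ⊗[k] A := (D.exists_z i).choose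

theorem aug_zvar [DecidableEq ι] (i : ι) : D.aug (D.zvar i) = 0 := (D.exists_z i).choose_spec.1

theorem δbar_zvar [DecidableEq ι] (i : ι) : D.δbar (D.zvar i) = Pi.single i 1 := (D.exists_z i).choose_spec.2

theorem sub_aug_mem (r : B ⊗[k] A) : r - algebraMap B _ (D.aug r) ∈ D.jJ := by
  rw [mem_jJ, map_sub, AlgHom.commutes, Algebra.algebraMap_self, RingHom.id_apply, sub_self]

variable [Fintype ι] [DecidableEq ι]

/-- First order expansion. -/
theorem first_order (r : B ⊗[k] A) :
    r - algebraMap B _ (D.aug r) - ∑ i, algebraMap B _ (D.δbar r i) * D.zvar i ∈ D.jJ ^ 2 := by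
  let N := (B ⊗[k] A) ⧸ D.jJ ^ 2
  let q : B ⊗[k] A →ₗ[B] N := (Ideal.Quotient.mkₐ B (D.jJ ^ 2)).toLinearMap
  let d : A →+ N :=
    { toFun := fun a => q (1 ⊗ₜ a - algebraMap B _ (D.φ a))
      map_zero' := by simp
      map_add' := fun a b => by
        rw [← map_add, tmul_add, map_add, map_add]
        congr 1
        abel }
  have hd : ∀ a b : A, d (a * b) = D.φ a • d b + D.φ b • d a := by
    intro a b
    show q _ = D.φ a • q _ + D.φ b • q _
    rw [← map_smul q, ← map_smul q, ← map_add q]
    refine Ideal.Quotient.eq.2 ?_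
    have hab : ((1 : B) ⊗ₜ[k] a) * (1 ⊗ₜ b) = 1 ⊗ₜ (a * b) := by
      rw [Algebra.TensorProduct.tmul_mul_tmul, mul_one]
    have h : (1 ⊗ₜ a - algebraMap B _ (D.φ a)) * (1 ⊗ₜ b - algebraMap B _ (D.φ b)) ∈ D.jJ ^ 2 := by
      rw [pow_two]
      refine Ideal.mul_mem_mul ?_ ?_ <;>
        (rw [mem_jJ, map_sub, aug_tmul, one_mul, AlgHom.commutes, Algebra.algebraMap_self,
          RingHom.id_apply, sub_self])
    convert h using 1
    rw [Algebra.smul_def, Algebra.smul_def, ← hab, map_mul D.φ, map_mul]
    ring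
  have hk : ∀ c : k, d (algebraMap k A c) = 0 := by
    intro c
    show q _ = 0
    rw [AlgHom.commutes, ← IsScalarTower.algebraMap_apply,
      ← Algebra.TensorProduct.includeRight_apply (R := k) (A := B), AlgHom.commutes, sub_self, map_zero]
  obtain ⟨L, hL⟩ := D.univ N d hd hk
  have key : ∀ r, q (r - algebraMap B _ (D.aug r)) = L (D.δbar r) := by
    intro r
    induction r using TensorProduct.induction_on with
    | zero => simp
    | add r r' h h' => simp only [map_add, ← h, ← h', map_sub]; abel
    | tmul b a =>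
      rw [δbar_tmul, map_smul, ← hL]
      show q _ = b • q _
      rw [← map_smul, aug_tmul]
      congr 1
      rw [Algebra.smul_def, mul_sub, ← map_mul]
      congr 1
      rw [Algebra.TensorProduct.algebraMap_apply, Algebra.TensorProduct.tmul_mul_tmul, one_mul, Algebra.algebraMap_self,
        RingHom.id_apply, mul_one]
  have hz : ∀ i, L (Pi.single i 1) = q (D.zvar i) := fun i => by
    rw [← D.δbar_zvar i, ← key, D.aug_zvar, map_zero, sub_zero]
  refine Ideal.Quotient.eq.1 (?_ : q (r - algebraMap B _ (D.aug r)) = q _)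
  rw [key, map_sum]
  conv_lhs => rw [pi_eq_sum_univ' (D.δbar r), map_sum]
  exact Finset.sum_congr rfl fun i _ => by rw [map_smul, hz, ← map_smul, Algebra.smul_def]

theorem sub_sum_mem {r : B ⊗[k] A} (hr : r ∈ D.jJ) :
    r - ∑ i, algebraMap B _ (D.δbar r i) * D.zvar i ∈ D.jJ ^ 2 := by
  simpa [(D.mem_jJ).1 hr] using D.first_order r

theorem zvar_mem (i : ι) : D.zvar i ∈ D.jJ := D.aug_zvar i

theorem exists_homogeneous (n : ℕ) : ∀ u ∈ D.jJ ^ n, ∃ g : MvPolynomial ι B, g.IsHomogeneous n ∧
    u - aeval D.zvar g ∈ D.jJ ^ (n + 1) := by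
  induction n with
  | zero =>
    intro u _
    refine ⟨C (D.aug u), isHomogeneous_C _ _, ?_⟩
    rw [pow_one, aeval_C]
    exact D.sub_aug_mem u
  | succ n ih =>
    intro u hu
    rw [pow_succ] at hu
    induction hu using Submodule.mul_induction_on' with
    | mem_mul_mem a ha b hb =>
      obtain ⟨g, hg, hga⟩ := ih a ha
      refine ⟨g * ∑ i, C (D.δbar b i) * X i, hg.mul (IsHomogeneous.sum _ _ _ fun i _ => isHomogeneous_C_mul_X _ i), ?_⟩
      have hb2 := D.sub_sum_mem hb
      have hg' : aeval D.zvar g ∈ D.jJ ^ n := by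
        have := Ideal.sub_mem _ ha (Ideal.pow_le_pow_right (Nat.le_succ n) hga)
        simpa using this
      have h1 : (a - aeval D.zvar g) * b ∈ D.jJ ^ (n + 1 + 1) := by
        rw [pow_succ]; exact Ideal.mul_mem_mul hga hb
      have h2 : aeval D.zvar g * (b - ∑ i, algebraMap B _ (D.δbar b i) * D.zvar i) ∈ D.jJ ^ (n + 1 + 1) := by
        rw [show n + 1 + 1 = n + 2 from rfl, pow_add]; exact Ideal.mul_mem_mul hg' hb2
      convert Ideal.add_mem _ h1 h2 using 1
      simp only [map_mul, map_sum, aeval_C, aeval_X]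
      ring
    | add a _ b _ ha hb =>
      obtain ⟨ga, hga, ha'⟩ := ha
      obtain ⟨gb, hgb, hb'⟩ := hb
      refine ⟨ga + gb, hga.add hgb, ?_⟩
      convert Ideal.add_mem _ ha' hb' using 1
      rw [map_add]; ring

end JetDatum

/-- Evaluations of a homogeneous polynomial at congruent families. -/
theorem eval_sub_mem {R S σ : Type*} [CommRing R] [CommRing S] [Algebra R S] (I : Ideal S) {x y : σ → S}
    (hx : ∀ i, x i ∈ I) (hy : ∀ i, y i ∈ I) (hxy : ∀ i, x i - y i ∈ I ^ 2)
    {n : ℕ} {g : MvPolynomial σ R} (hg : g.IsHomogeneous n) :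
    aeval x g - aeval y g ∈ I ^ (n + 1) := by
  classical
  have key : ∀ e : σ →₀ ℕ, (e.prod fun i m => x i ^ m) ∈ I ^ e.degree ∧ (e.prod fun i m => y i ^ m) ∈ I ^ e.degree ∧
      (e.prod fun i m => x i ^ m) - (e.prod fun i m => y i ^ m) ∈ I ^ (e.degree + 1) := by
    intro e
    induction e using Finsupp.induction with
    | zero => simp
    | single_add a b e hae hb ih =>
      obtain ⟨h1, h2, h3⟩ := ih
      rw [Finsupp.prod_add_index' (fun i => pow_zero (x i)) (fun i m l => pow_add (x i) m l),
        Finsupp.prod_add_index' (fun i => pow_zero (y i)) (fun i m l => pow_add (y i) m l),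
        Finsupp.prod_single_index (h := fun i m => x i ^ m) (pow_zero (x a)),
        Finsupp.prod_single_index (h := fun i m => y i ^ m) (pow_zero (y a)), map_add,
        Finsupp.degree_single]
      have hxb : x a ^ b ∈ I ^ b := Ideal.pow_mem_pow (hx a) b
      have hyb : y a ^ b ∈ I ^ b := Ideal.pow_mem_pow (hy a) b
      have hd : ∀ m : ℕ, x a ^ m - y a ^ m ∈ I ^ (m + 1) := by
        intro m
        induction m with
        | zero => simp
        | succ m ihm =>
          have t1 : (x a ^ m - y a ^ m) * x a ∈ I ^ (m + 1 + 1) := by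
            rw [pow_succ]; exact Ideal.mul_mem_mul ihm (hx a)
          have t2 : y a ^ m * (x a - y a) ∈ I ^ (m + 1 + 1) := by
            rw [show m + 1 + 1 = m + 2 from rfl, pow_add]
            exact Ideal.mul_mem_mul (Ideal.pow_mem_pow (hy a) m) (hxy a)
          convert Ideal.add_mem _ t1 t2 using 1
          ring
      refine ⟨by rw [pow_add]; exact Ideal.mul_mem_mul hxb h1, by rw [pow_add]; exact Ideal.mul_mem_mul hyb h2, ?_⟩
      have t1 : (x a ^ b - y a ^ b) * (e.prod fun i m => x i ^ m) ∈ I ^ (b + e.degree + 1) := by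
        rw [add_right_comm, pow_add]; exact Ideal.mul_mem_mul (hd b) h1
      have t2 : y a ^ b * ((e.prod fun i m => x i ^ m) - (e.prod fun i m => y i ^ m)) ∈ I ^ (b + e.degree + 1) := by
        rw [add_assoc, pow_add]; exact Ideal.mul_mem_mul hyb h3
      convert Ideal.add_mem _ t1 t2 using 1
      ring
  rw [g.as_sum, map_sum, map_sum, ← Finset.sum_sub_distrib]
  refine Ideal.sum_mem _ fun e he => ?_
  rw [aeval_monomial, aeval_monomial, ← mul_sub]
  have hd := (key e).2.2
  rw [hg.degree_eq_sum_deg_support he]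
  exact Ideal.mul_mem_left _ _ hd

namespace JetDatum

/-- For formally smooth `A` the monomials are independent. -/
theorem eq_zero_of_aeval_mem {k A B : Type u} [CommRing k] [CommRing A] [Algebra k A] [CommRing B] [Algebra k B]
    [Algebra.FormallySmooth k A] {ι : Type} [Fintype ι] [DecidableEq ι] (D : JetDatum k A B ι)
    {n : ℕ} {g : MvPolynomial ι B} (hg : g.IsHomogeneous n) (h : aeval D.zvar g ∈ D.jJ ^ (n + 1)) : g = 0 := by
  let P := MvPolynomial ι B
  let m : Ideal P := idealOfVars ι B
  let Q := P ⧸ m ^ (n + 1)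
  let q : P →ₐ[B] Q := Ideal.Quotient.mkₐ B (m ^ (n + 1))
  let mq : Ideal Q := m.map q
  let Q₂ := Q ⧸ mq ^ 2
  let q₂ : Q →ₐ[B] Q₂ := Ideal.Quotient.mkₐ B (mq ^ 2)
  let lin : (ι → B) →ₗ[B] Q₂ :=
    { toFun := fun v => ∑ i, v i • q₂ (q (X i))
      map_add' := fun v w => by simp [add_smul, Finset.sum_add_distrib]
      map_smul' := fun c v => by simp [Finset.smul_sum, smul_smul] }
  have hmem : ∀ v, ∃ w ∈ mq, q₂ w = lin v := fun v => ⟨∑ i, v i • q (X i),
    Ideal.sum_mem _ fun i _ => Submodule.smul_of_tower_mem mq _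
      (Ideal.mem_map_of_mem q (Ideal.subset_span ⟨i, rfl⟩)), by simp [lin]⟩
  have hzero : ∀ v w, lin v * lin w = 0 := by
    intro v w
    obtain ⟨a, ha, hav⟩ := hmem v
    obtain ⟨b, hb, hbw⟩ := hmem w
    rw [← hav, ← hbw, ← map_mul]
    exact Ideal.Quotient.eq_zero_iff_mem.2 (by rw [pow_two]; exact Ideal.mul_mem_mul ha hb)
  let Δ : B ⊗[k] A →ₐ[B] Q₂ := AlgHom.ofLinearMap
    ((Algebra.linearMap B Q₂).comp D.aug.toLinearMap + lin.comp D.δbar)
    (by
      show algebraMap B Q₂ (D.aug 1) + lin (D.δbar 1) = 1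
      rw [map_one, map_one, show D.δbar (1 : B ⊗[k] A) = 0 from by
        rw [← map_one (algebraMap B (B ⊗[k] A)), δbar_algebraMap], map_zero, add_zero])
    (fun r s => by
      show algebraMap B Q₂ (D.aug (r * s)) + lin (D.δbar (r * s)) =
        (algebraMap B Q₂ (D.aug r) + lin (D.δbar r)) * (algebraMap B Q₂ (D.aug s) + lin (D.δbar s))
      rw [map_mul, map_mul, δbar_mul, map_add, map_smul, map_smul, Algebra.smul_def, Algebra.smul_def,
        add_mul, mul_add, mul_add, hzero]
      ring)
  have hnil : IsNilpotent (mq ^ 2) := by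
    refine ⟨n + 1, ?_⟩
    rw [← pow_mul, Ideal.zero_eq_bot, eq_bot_iff, ← Ideal.map_pow, Ideal.map_le_iff_le_comap]
    intro x hx
    exact Ideal.Quotient.eq_zero_iff_mem.2 (Ideal.pow_le_pow_right (by omega) hx)
  let ψ : B ⊗[k] A →ₐ[B] Q := Algebra.FormallySmooth.lift (mq ^ 2) hnil Δ
  have hψ : ∀ r, q₂ (ψ r) = algebraMap B Q₂ (D.aug r) + lin (D.δbar r) := fun r =>
    Algebra.FormallySmooth.mk_lift (mq ^ 2) hnil Δ r
  have hJ : D.jJ.map ψ ≤ mq := by
    rw [Ideal.map_le_iff_le_comap]
    intro r hr
    show ψ r ∈ mq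
    obtain ⟨w, hw, hwr⟩ := hmem (D.δbar r)
    have h2 : q₂ (ψ r - w) = 0 := by
      rw [map_sub, hψ, (D.mem_jJ).1 hr, map_zero, zero_add, hwr, sub_self]
    have h3 : ψ r - w ∈ mq := Ideal.pow_le_self two_ne_zero (Ideal.Quotient.eq_zero_iff_mem.1 h2)
    simpa using Ideal.add_mem _ h3 hw
  have hz : ∀ i, ψ (D.zvar i) - q (X i) ∈ mq ^ 2 := by
    intro i
    refine Ideal.Quotient.eq_zero_iff_mem.1 (?_ : q₂ (ψ (D.zvar i) - q (X i)) = 0)
    rw [map_sub, hψ, aug_zvar, map_zero, zero_add, δbar_zvar, sub_eq_zero]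
    simp [lin, Pi.single_apply]
  have hd := eval_sub_mem (R := B) mq (x := fun i => ψ (D.zvar i)) (y := fun i => q (X i))
    (fun i => hJ (Ideal.mem_map_of_mem ψ (D.zvar_mem i))) (fun i => Ideal.mem_map_of_mem q (Ideal.subset_span ⟨i, rfl⟩))
    hz hg
  have h1 : aeval (fun i => ψ (D.zvar i)) g ∈ mq ^ (n + 1) := by
    rw [← comp_aeval D.zvar ψ, AlgHom.comp_apply]
    refine Ideal.pow_right_mono hJ (n + 1) ?_
    rw [← Ideal.map_pow]
    exact Ideal.mem_map_of_mem ψ h
  have h2 : q g ∈ mq ^ (n + 1) := by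
    have h3 : aeval (fun i => q (X i)) g = q g := by
      rw [← comp_aeval X q, AlgHom.comp_apply, aeval_X_left_apply]
    rw [← h3]
    simpa using Ideal.sub_mem _ h1 hd
  rw [← Ideal.map_pow] at h2
  have h4 : g ∈ m ^ (n + 1) := by
    obtain ⟨g', hg', he⟩ := (Ideal.mem_map_iff_of_surjective q (Ideal.Quotient.mkₐ_surjective B _)).1 h2
    have := Ideal.add_mem _ (Ideal.Quotient.eq.1 he.symm) hg'
    simpa using this
  ext e
  rw [coeff_zero]
  by_cases he : e.degree = n
  · exact (mem_pow_idealOfVars_iff' (n + 1) g).1 h4 e (by omega)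
  · exact hg.coeff_eq_zero he

/-- The map of tensor products of a map of data. -/
noncomputable def transMap {k A A' B B' : Type u} [CommRing k] [CommRing A] [Algebra k A] [CommRing A']
    [Algebra k A'] [CommRing B] [Algebra k B] [CommRing B'] [Algebra k B'] (incl : B' →ₐ[k] B) (g : A' →ₐ[k] A) :
    B' ⊗[k] A' →ₐ[k] B ⊗[k] A :=
  Algebra.TensorProduct.map incl g

section Transfer

variable {k A A' B B' : Type u} [CommRing k] [CommRing A] [Algebra k A] [CommRing A']
  [Algebra k A'] [CommRing B] [Algebra k B] [CommRing B'] [Algebra k B'] {ι : Type} [Fintype ι] [DecidableEq ι]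
  (D : JetDatum k A B ι) (D' : JetDatum k A' B' ι) (incl : B' →ₐ[k] B) (g : A' →ₐ[k] A) (s : ι → B)

theorem aug_transMap (hφ : ∀ a, incl (D'.φ a) = D.φ (g a)) (r : B' ⊗[k] A') :
    D.aug (transMap incl g r) = incl (D'.aug r) := by
  induction r using TensorProduct.induction_on with
  | zero => simp
  | add a b ha hb => simp [ha, hb]
  | tmul b a => simp [transMap, aug_tmul, hφ]

theorem transMap_pow_mem (hφ : ∀ a, incl (D'.φ a) = D.φ (g a)) {n : ℕ} {r : B' ⊗[k] A'} (hr : r ∈ D'.jJ ^ n) :
    transMap incl g r ∈ D.jJ ^ n := by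
  have h : D'.jJ.map (transMap incl g) ≤ D.jJ := Ideal.map_le_iff_le_comap.2 fun x hx => by
    show D.aug (transMap incl g x) = 0
    rw [aug_transMap D D' incl g hφ, (D'.mem_jJ).1 hx, map_zero]
  refine Ideal.pow_right_mono h n ?_
  rw [← Ideal.map_pow]
  exact Ideal.mem_map_of_mem _ hr

theorem transMap_aeval_sub_mem (hφ : ∀ a, incl (D'.φ a) = D.φ (g a))
    (hδ : ∀ a i, D.δ (g a) i = s i * incl (D'.δ a i)) {n : ℕ} {p : MvPolynomial ι B'} (hp : p.IsHomogeneous n) :
    transMap incl g (aeval D'.zvar p) - aeval D.zvar (bind₁ (fun i => C (s i) * X i) (p.map incl.toRingHom)) ∈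
      D.jJ ^ (n + 1) := by
  have hδbar : ∀ r i, D.δbar (transMap incl g r) i = s i * incl (D'.δbar r i) := by
    intro r i
    induction r using TensorProduct.induction_on with
    | zero => simp
    | add a b ha hb => simp [ha, hb, mul_add]
    | tmul b a => simp [transMap, δbar_tmul, hδ]; ring
  have h1 : transMap incl g (aeval D'.zvar p) =
      aeval (fun i => transMap incl g (D'.zvar i)) (p.map incl.toRingHom) := by
    rw [aeval_def, aeval_def, eval₂_map, ← AlgHom.coe_toRingHom, eval₂_comp_left (transMap incl g : B' ⊗[k] A' →+* B ⊗[k] A)]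
    congr 1
    ext b
    simp [transMap]
  have h2 : aeval D.zvar (bind₁ (fun i => C (s i) * X i) (p.map incl.toRingHom)) =
      aeval (fun i => algebraMap B _ (s i) * D.zvar i) (p.map incl.toRingHom) := by
    rw [aeval_bind₁]
    simp
  rw [h1, h2]
  have hm : ∀ i, transMap incl g (D'.zvar i) ∈ D.jJ := fun i => by
    rw [mem_jJ, aug_transMap D D' incl g hφ, aug_zvar, map_zero]
  refine eval_sub_mem D.jJ hm (fun i => Ideal.mul_mem_left _ _ (D.zvar_mem i)) (fun i => ?_) (hp.map _)
  have h := D.sub_sum_mem (hm i)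
  rwa [Finset.sum_eq_single i (fun j _ hj => by simp [hδbar, δbar_zvar, hj])
    (fun hi => absurd (Finset.mem_univ i) hi), hδbar, δbar_zvar, Pi.single_eq_same, map_one, mul_one] at h

end Transfer

/-- Diagonal substitution on coefficients. -/
theorem coeff_bind₁_diag {R σ : Type*} [CommRing R] (s : σ → R) (p : MvPolynomial σ R) (e : σ →₀ ℕ) :
    coeff e (bind₁ (fun i => C (s i) * X i) p) = (e.prod fun i m => s i ^ m) * coeff e p := by
  classical
  induction p using MvPolynomial.induction_on' with
  | monomial d c =>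
    have : bind₁ (fun i => C (s i) * X i) (monomial d c) = monomial d ((d.prod fun i m => s i ^ m) * c) := by
      rw [bind₁_monomial, monomial_eq, Finsupp.prod, map_mul, map_prod]
      simp only [mul_pow, Finset.prod_mul_distrib, ← map_pow, Finsupp.prod]
      ring
    rw [this, coeff_monomial, coeff_monomial]
    split_ifs with h
    · rw [h]
    · rw [mul_zero]
  | add p q hp hq => simp [hp, hq, mul_add]

/-- An element in all powers of the augmentation ideal dies at a rational point. -/
theorem mem_pow_of_tmul_mem {k A B : Type u} [CommRing k] [CommRing A] [Algebra k A] [CommRing B] [Algebra k B]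
    {ι : Type v} (D : JetDatum k A B ι) (χ : B →ₐ[k] k) {n : ℕ} {b : A} (h : (1 : B) ⊗ₜ[k] b ∈ D.jJ ^ n) :
    b ∈ RingHom.ker (χ.comp D.φ) ^ n := by
  let ev : B ⊗[k] A →ₐ[k] A :=
    Algebra.TensorProduct.lift ((Algebra.ofId k A).comp χ) (AlgHom.id k A) fun _ _ => mul_comm _ _
  have key : ∀ r, χ.comp D.φ (ev r) = χ (D.aug r) := by
    intro r
    induction r using TensorProduct.induction_on with
    | zero => simp
    | add a b ha hb => simp_all
    | tmul b a => simp [ev, aug_tmul]
  have hle : D.jJ.map ev ≤ RingHom.ker (χ.comp D.φ) := Ideal.map_le_iff_le_comap.2 fun x hx => by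
    show χ.comp D.φ (ev x) = 0
    rw [key, (D.mem_jJ).1 hx, map_zero]
  have h2 := Ideal.mem_map_of_mem ev h
  rw [Ideal.map_pow] at h2
  have := Ideal.pow_right_mono hle n h2
  simpa [ev] using this

/-- The constant coefficient as a map of algebras. -/
noncomputable def ccAlg (k A : Type u) [CommRing k] [CommRing A] [Algebra k A] (τ : Type) :
    MvPolynomial τ A →ₐ[k] A :=
  { (MvPolynomial.constantCoeff : MvPolynomial τ A →+* A) with
    commutes' := fun c => by
      show constantCoeff (algebraMap k (MvPolynomial τ A) c) = _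
      rw [IsScalarTower.algebraMap_apply k A, MvPolynomial.algebraMap_eq, constantCoeff_C] }

theorem ccAlg_apply (k A : Type u) [CommRing k] [CommRing A] [Algebra k A] (τ : Type) (P : MvPolynomial τ A) :
    ccAlg k A τ P = constantCoeff P := rfl

/-- Add free variables to the source. -/
noncomputable def fibreDatum {k A B : Type u} [CommRing k] [CommRing A] [Algebra k A] [CommRing B] [Algebra k B]
    {ι : Type} (D : JetDatum k A B ι) {τ σ : Type} [Fintype τ] [DecidableEq τ] (L : Module.Basis τ B (σ → B)) :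
    JetDatum k (MvPolynomial τ A) B (ι ⊕ σ) where
  φ := D.φ.comp (ccAlg k A τ)
  δ :=
    { toFun := fun P => Sum.elim (D.δ (constantCoeff P)) (∑ j, D.φ (coeff (Finsupp.single j 1) P) • L j)
      map_add' := fun P Q => by
        funext i
        rcases i with i | i <;> simp [add_smul, Finset.sum_add_distrib]
      map_smul' := fun c P => by
        funext i
        rcases i with i | i <;> simp [MvPolynomial.constantCoeff_eq, Finset.smul_sum] }
  leib := fun P Q => by
    funext i
    rcases i with i | i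
    · simp [D.leib, ccAlg_apply]
    · have hc : ∀ j, coeff (Finsupp.single j 1) (P * Q) =
          constantCoeff P * coeff (Finsupp.single j 1) Q + coeff (Finsupp.single j 1) P * constantCoeff Q := by
        intro j
        rw [coeff_mul, Finsupp.antidiagonal_single]
        simp [Finset.Nat.antidiagonal_succ, Finset.Nat.antidiagonal_zero, constantCoeff_eq]
      simp only [hc, map_add, map_mul, Sum.elim_inr, Pi.add_apply, Pi.smul_apply, smul_eq_mul,
        Finset.sum_apply, AlgHom.comp_apply, ccAlg_apply,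
        Finset.mul_sum, ← Finset.sum_add_distrib, LinearMap.coe_mk, AddHom.coe_mk]
      exact Finset.sum_congr rfl fun j _ => by ring
  span := by
    rw [eq_top_iff]
    intro v _
    have h1 : ∀ w : ι → B, Sum.elim w 0 ∈ Submodule.span B (Set.range fun P : MvPolynomial τ A =>
        Sum.elim (D.δ (constantCoeff P)) (∑ j, D.φ (coeff (Finsupp.single j 1) P) • L j)) := by
      intro w
      have hw : w ∈ Submodule.span B (Set.range D.δ) := by rw [D.span]; trivial
      induction hw using Submodule.span_induction with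
      | mem w hw =>
        obtain ⟨a, rfl⟩ := hw
        exact Submodule.subset_span ⟨C a, by simp [coeff_C, Finset.sum_eq_zero, Finsupp.single_eq_zero, eq_comm (a := (0 : τ →₀ ℕ))]⟩
      | zero => simp
      | add a b _ _ ha hb =>
        convert Submodule.add_mem _ ha hb using 1
        funext i; rcases i with i | i <;> simp
      | smul c a _ ha =>
        convert Submodule.smul_mem _ c ha using 1
        funext i; rcases i with i | i <;> simp
    have h2 : ∀ w : σ → B, Sum.elim (0 : ι → B) w ∈ Submodule.span B (Set.range fun P : MvPolynomial τ A =>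
        Sum.elim (D.δ (constantCoeff P)) (∑ j, D.φ (coeff (Finsupp.single j 1) P) • L j)) := by
      intro w
      have : Sum.elim (0 : ι → B) w = ∑ j, L.repr w j • Sum.elim (0 : ι → B) (L j) := by
        funext i
        rcases i with i | i
        · simp [Finset.sum_apply]
        · simpa [Finset.sum_apply] using (congrFun (L.sum_repr w) i).symm
      rw [this]
      refine Submodule.sum_mem _ fun j _ => Submodule.smul_mem _ _ (Submodule.subset_span ⟨X j, ?_⟩)
      show Sum.elim (D.δ (constantCoeff (X j : MvPolynomial τ A))) _ = _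
      rw [constantCoeff_X, map_zero, Finset.sum_eq_single j]
      · simp
      · intro b _ hb
        simp [coeff_X', hb.symm, Finsupp.single_eq_single_iff]
      · simp
    have := Submodule.add_mem _ (h1 fun i => v (Sum.inl i)) (h2 fun i => v (Sum.inr i))
    have hv : Sum.elim (fun i => v (Sum.inl i)) (0 : σ → B) + Sum.elim (0 : ι → B) (fun i => v (Sum.inr i)) = v := by
      funext i; rcases i with i | i <;> simp
    rw [hv] at this
    exact this
  univ := fun N _ _ d hd hk => by
    have hC : ∀ a : A, D.φ.comp (ccAlg k A τ) (C a) = D.φ a := fun a => by simp [ccAlg_apply]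
    obtain ⟨L₁, hL₁⟩ := D.univ N (d.comp (C : A →+* MvPolynomial τ A).toAddMonoidHom)
      (fun a b => by simpa [hC, map_mul] using hd (C a) (C b))
      (fun c => by
        show d (C (algebraMap k A c)) = 0
        rw [← MvPolynomial.algebraMap_eq, ← IsScalarTower.algebraMap_apply]
        exact hk c)
    let L₂ : (σ → B) →ₗ[B] N := L.constr B fun j => d (X j)
    refine ⟨L₁.comp (LinearMap.funLeft B B Sum.inl) + L₂.comp (LinearMap.funLeft B B Sum.inr), fun P => ?_⟩
    show d P = L₁ (D.δ (constantCoeff P)) + L₂ (∑ j, D.φ (coeff (Finsupp.single j 1) P) • L j)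
    induction P using MvPolynomial.induction_on with
    | C a =>
      rw [constantCoeff_C, ← hL₁]
      simp [coeff_C, eq_comm (a := (0 : τ →₀ ℕ))]
    | add P Q hP hQ =>
      rw [map_add, hP, hQ]
      simp only [map_add, coeff_add, add_smul, Finset.sum_add_distrib]
      abel
    | mul_X P j hP =>
      rw [hd]
      have hLj : L₂ (L j) = d (X j) := L.constr_basis B _ j
      have hsum : (∑ i, D.φ (coeff (Finsupp.single i 1) (P * X j)) • L i) = D.φ (constantCoeff P) • L j := by
        rw [Finset.sum_eq_single j]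
        · rw [coeff_mul_X', if_pos (by simp), tsub_self, constantCoeff_eq]
        · intro b _ hb
          rw [coeff_mul_X', if_neg (by simp [Ne.symm hb]), map_zero, zero_smul]
        · simp
      rw [hsum, map_smul, hLj]
      simp [ccAlg_apply]

end JetDatum

end Groth.Agent.H29Free
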