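import Groth.Agent.H29Free.JetCore

/-!
# Elements killed by negativity of jets

If the jets of an element along a family of maps have coefficients which are forced to vanish, the
element vanishes.
-/

set_option autoImplicit false
set_option linter.style.haveILetI false

open TensorProduct MvPolynomial

namespace Groth.Agent.H29Free

universe u v

variable {k K Aη : Type u} [Field k] [Field K] [Algebra k K] [CommRing Aη] [Algebra k Aη]
  [Algebra.FormallySmooth k Aη] {ι : Type} [Fintype ι] [DecidableEq ι] (D : JetDatum k Aη K ι)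
  {P : Type v} {A B : P → Type u} [∀ p, CommRing (A p)] [∀ p, Algebra k (A p)] [∀ p, CommRing (B p)]
  [∀ p, Algebra k (B p)] (Dp : ∀ p, JetDatum k (A p) (B p) ι) (incl : ∀ p, B p →ₐ[k] K)
  (g : ∀ p, A p →ₐ[k] Aη) (s : ∀ p, ι → B p) (S : Set ι) (ρ : Aη →ₐ[k] Aη)

theorem tmul_mem_pow (hincl : ∀ p, Function.Injective (incl p)) (hφ : ∀ p a, incl p ((Dp p).φ a) = D.φ (g p a))
    (hs : ∀ p i, s p i ≠ 0) (hδ : ∀ p a i, D.δ (g p a) i = incl p (s p i) * incl p ((Dp p).δ a i))
    (hρφ : ∀ a, D.φ (ρ a) = D.φ a) (hρδ : ∀ a, ∀ i ∈ S, D.δ (ρ a) i = 0)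
    (hρδ' : ∀ a, ∀ i ∉ S, D.δ (ρ a) i = D.δ a i)
    (hneg : ∀ i ∈ S, ∀ c : K, (∀ p, ∃ d : B p, c = incl p (s p i) * incl p d) → c = 0)
    (b : ∀ p, A p) (bη : Aη) (hb : ∀ p, g p (b p) = bη) (hρb : ρ bη = 0) :
    ∀ (n : ℕ) (p : P), (1 : B p) ⊗ₜ[k] b p ∈ (Dp p).jJ ^ n := by
  intro n
  induction n with
  | zero => intro p; simp
  | succ n ih =>
    choose gp hgp hgp' using fun p => (Dp p).exists_homogeneous n _ (ih p)
    let G : P → MvPolynomial ι K := fun p =>
      bind₁ (fun i => C (incl p (s p i)) * X i) ((gp p).map (incl p).toRingHom)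
    have hcoeff : ∀ p e, coeff e (G p) = (e.prod fun i m => incl p (s p i) ^ m) * incl p (coeff e (gp p)) := by
      intro p e
      rw [JetDatum.coeff_bind₁_diag, coeff_map]
      rfl
    have hG : ∀ p, (G p).IsHomogeneous n := by
      intro p e he
      rw [hcoeff] at he
      have h0 : coeff e (gp p) ≠ 0 := fun h0 => he (by rw [h0, map_zero, mul_zero])
      exact hgp p h0
    have hmem : ∀ p, (1 : K) ⊗ₜ[k] bη - aeval D.zvar (G p) ∈ D.jJ ^ (n + 1) := by
      intro p
      have h1 := JetDatum.transMap_pow_mem D (Dp p) (incl p) (g p) (hφ p) (hgp' p)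
      have h2 := JetDatum.transMap_aeval_sub_mem D (Dp p) (incl p) (g p) (fun i => incl p (s p i)) (hφ p) (hδ p) (hgp p)
      have h3 := Ideal.add_mem _ h1 h2
      simp only [map_sub, JetDatum.transMap, Algebra.TensorProduct.map_tmul, map_one, hb] at h3
      convert h3 using 1
      abel
    intro p₀
    classical
    let ind : ι → K := fun i => if i ∈ S then 0 else 1
    have hzero : ∀ e : ι →₀ ℕ, coeff e (G p₀) = 0 := by
      intro e
      by_cases hS : ∃ i ∈ S, e i ≠ 0
      · obtain ⟨i, hiS, hei⟩ := hS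
        refine hneg i hiS _ fun p => ?_
        have hGp : G p = G p₀ := by
          refine sub_eq_zero.1 (D.eq_zero_of_aeval_mem ((hG p).sub (hG p₀)) ?_)
          have h := Ideal.sub_mem _ (hmem p₀) (hmem p)
          convert h using 1
          rw [map_sub]
          abel
        refine ⟨((e - Finsupp.single i 1).prod fun i m => s p i ^ m) * coeff e (gp p), ?_⟩
        rw [← hGp, hcoeff, map_mul, ← mul_assoc, map_finsuppProd]
        congr 1
        conv_lhs => rw [show e = Finsupp.single i 1 + (e - Finsupp.single i 1) from (add_tsub_cancel_of_le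
          (Finsupp.single_le_iff.2 (Nat.one_le_iff_ne_zero.2 hei))).symm]
        rw [Finsupp.prod_add_index' (fun j => pow_zero (incl p (s p j))) (fun j m l => pow_add (incl p (s p j)) m l),
          Finsupp.prod_single_index (h := fun j m => incl p (s p j) ^ m) (pow_zero _), pow_one]
        simp only [map_pow]
      · push Not at hS
        have h1 := JetDatum.transMap_pow_mem D D (AlgHom.id k K) ρ (fun a => (hρφ a).symm) (hmem p₀)
        have h2 := JetDatum.transMap_aeval_sub_mem D D (AlgHom.id k K) ρ ind (fun a => (hρφ a).symm)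
          (fun a i => by
            show D.δ (ρ a) i = ind i * D.δ a i
            by_cases hi : i ∈ S
            · simp [ind, hi, hρδ a i hi]
            · simp [ind, hi, hρδ' a i hi]) (hG p₀)
        have hmap : (G p₀).map (AlgHom.id k K).toRingHom = G p₀ := MvPolynomial.map_id _
        rw [hmap] at h2
        have h3 : aeval D.zvar (bind₁ (fun i => C (ind i) * X i) (G p₀)) ∈ D.jJ ^ (n + 1) := by
          have h4 := Ideal.add_mem _ h1 h2
          simp only [map_sub, JetDatum.transMap, Algebra.TensorProduct.map_tmul, hρb, tmul_zero, zero_sub] at h4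
          have h5 := Submodule.neg_mem _ h4
          convert h5 using 1
          abel
        have h6 : (bind₁ (fun i => C (ind i) * X i) (G p₀)).IsHomogeneous n := by
          intro d hd
          rw [JetDatum.coeff_bind₁_diag] at hd
          exact hG p₀ (right_ne_zero_of_mul hd)
        have h7 := congrArg (coeff e) (D.eq_zero_of_aeval_mem h6 h3)
        rw [coeff_zero, JetDatum.coeff_bind₁_diag, Finsupp.prod, Finset.prod_eq_one, one_mul] at h7
        · exact h7
        · intro i hi
          have hiS : i ∉ S := fun h => (Finsupp.mem_support_iff.1 hi) (hS i h)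
          simp [ind, hiS]
    have hg0 : gp p₀ = 0 := by
      ext e
      rw [coeff_zero]
      have h := hzero e
      rw [hcoeff, mul_eq_zero] at h
      rcases h with h | h
      · exfalso
        rw [Finsupp.prod, Finset.prod_eq_zero_iff] at h
        obtain ⟨i, -, hi⟩ := h
        exact hs p₀ i (hincl p₀ (by rw [map_zero]; exact eq_zero_of_pow_eq_zero hi))
      · exact hincl p₀ (by rw [h, map_zero])
    have := hgp' p₀
    rwa [hg0, map_zero, sub_zero] at this

theorem eq_zero_of_mem_all {k A B : Type u} [Field k] [CommRing A] [IsDomain A] [IsNoetherianRing A] [Algebra k A]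
    [CommRing B] [Algebra k B] {ι : Type v} (D : JetDatum k A B ι) (χ : B →ₐ[k] k) (b : A)
    (h : ∀ n : ℕ, (1 : B) ⊗ₜ[k] b ∈ D.jJ ^ n) : b = 0 := by
  have hne : RingHom.ker (χ.comp D.φ) ≠ ⊤ := RingHom.ker_ne_top _
  have hb : b ∈ ⨅ n : ℕ, RingHom.ker (χ.comp D.φ) ^ n :=
    Submodule.mem_iInf _ |>.2 fun n => JetDatum.mem_pow_of_tmul_mem D χ (h n)
  rwa [Ideal.iInf_pow_eq_bot_of_isDomain _ hne, Submodule.mem_bot] at hb

end Groth.Agent.H29Free
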