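import Groth.Agent.H29RR.P1Split
import Groth.Agent.H22Alg.ExtPowSum
import Groth.Agent.H22Alg.KExists
import Groth.Agent.H22Alg.PB.Kos
import Groth.Agent.H10Coh.TensorBasics
import Groth.Agent.H26Gr.QuotBC
import Groth.Agent.H29RR.DetTrivial
import Groth.Agent.H22Alg.ExtPowSES
import Groth.Agent.H10Coh.ExtPowFree
import Groth.Agent.H17.KoszTwist.Stalk

/-!
# Bounds on splitting degrees on the projective line
-/

set_option autoImplicit false
set_option linter.style.haveILetI false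
universe u

open CategoryTheory CategoryTheory.Limits AlgebraicGeometry TopologicalSpace Opposite

namespace Groth.Agent.H29Free

open H29RR H29RR.PnPic

attribute [local instance 10000] H10Coh.hasSheafifyAb H10Coh.hasWeakSheafifyAb H10Coh.hasExtAb H10Coh.enoughInjAb
attribute [local instance] H29RR.PnPic.overSpec

noncomputable section

variable (k : Type u) [Field k]

/-- `O(d)` on the line. -/
abbrev O1 (d : ℤ) : (CohB1.ProjSpace 1 k).Modules := Twist.twistProjSpace 1 k d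

/-- All splitting degrees are at most `c`. -/
def Bd (c : ℤ) (M : (CohB1.ProjSpace 1 k).Modules) : Prop :=
  ∃ (r : ℕ) (d : Fin r → ℤ), (∀ i, d i ≤ c) ∧ Nonempty (M ≅ ∐ fun i => O1 k (d i))

variable {k}

theorem Bd.of_iso {c : ℤ} {M N : (CohB1.ProjSpace 1 k).Modules} (h : Bd k c M) (e : M ≅ N) : Bd k c N := by
  obtain ⟨r, d, hd, ⟨e'⟩⟩ := h
  exact ⟨r, d, hd, ⟨e.symm ≪≫ e'⟩⟩

theorem Bd.mono {c c' : ℤ} {M : (CohB1.ProjSpace 1 k).Modules} (h : Bd k c M) (hc : c ≤ c') : Bd k c' M := by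
  obtain ⟨r, d, hd, e⟩ := h
  exact ⟨r, d, fun i => (hd i).trans hc, e⟩

theorem bd_zero (c : ℤ) {M : (CohB1.ProjSpace 1 k).Modules} (h : IsZero M) : Bd k c M :=
  ⟨0, Fin.elim0, fun i => i.elim0, ⟨h.iso ((IsZero.iff_id_eq_zero _).2 (Sigma.hom_ext _ _ fun b => b.elim0))⟩⟩

theorem bd_line (a : ℤ) : Bd k a (O1 k a) := by
  refine ⟨1, fun _ => a, fun _ => le_rfl, ⟨⟨Sigma.ι (fun _ : Fin 1 => O1 k a) 0, Sigma.desc fun _ => 𝟙 _,
    by rw [Sigma.ι_desc], Sigma.hom_ext _ _ fun b => ?_⟩⟩⟩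
  rw [Sigma.ι_desc_assoc, Category.id_comp, Category.comp_id, Subsingleton.elim b 0]

theorem bd_structure : Bd k 0 (Coh.structureModule (CohB1.ProjSpace 1 k)) :=
  (bd_line 0).of_iso (H10Coh.Stab.isTwistFamily_projSpace 1 k).zero.some

theorem Bd.sigma {c : ℤ} {κ : Type} [Fintype κ] (M : κ → (CohB1.ProjSpace 1 k).Modules)
    (h : ∀ i, Bd k c (M i)) : Bd k c (∐ M) := by
  choose r d hd he using h
  let ε : Fin (Fintype.card (Σ i, Fin (r i))) ≃ (Σ i, Fin (r i)) := (Fintype.equivFin _).symm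
  refine ⟨_, fun j => d (ε j).1 (ε j).2, fun j => hd _ _, ⟨?_⟩⟩
  exact Sigma.mapIso (fun i => (he i).some) ≪≫
    sigmaSigmaIso (fun i => Fin (r i)) (fun i j => O1 k (d i j)) ≪≫
    (Sigma.whiskerEquiv ε fun j => Iso.refl (O1 k (d (ε j).1 (ε j).2))).symm

theorem Bd.tensor {a b : ℤ} {M N : (CohB1.ProjSpace 1 k).Modules} (hM : Bd k a M) (hN : Bd k b N) :
    Bd k (a + b) (CohB1.tensorMod M N) := by
  obtain ⟨r, d, hd, ⟨e⟩⟩ := hM
  obtain ⟨s, d', hd', ⟨e'⟩⟩ := hN
  let T := H29RR.twist N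
  haveI : T.Additive := inferInstanceAs ((DCoh.tensorBi (X := CohB1.ProjSpace 1 k)).flip.obj _).Additive
  refine Bd.of_iso ?_ (PicGrp.tensorModIso e.symm (Iso.refl N))
  refine Bd.of_iso ?_ (PreservesCoproduct.iso T (fun i => O1 k (d i))).symm
  refine Bd.sigma _ fun i => ?_
  refine Bd.of_iso ?_ (H10Coh.Tw.commIso N (O1 k (d i)))
  refine Bd.of_iso ?_ (PicGrp.tensorModIso e'.symm (Iso.refl _))
  obtain ⟨e''⟩ := nonempty_tensor_sum (n := 1) (k := k) d' (d i)
  exact ⟨s, fun j => d' j + d i, fun j => show d' j + d i ≤ a + b by have := hd i; have := hd' j; omega, ⟨e''⟩⟩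

theorem Bd.tensorPow {a : ℤ} {M : (CohB1.ProjSpace 1 k).Modules} (hM : Bd k a M) :
    ∀ m : ℕ, Bd k (m * a) (CohB1.tensorPow M m)
  | 0 => by simpa [CohB1.tensorPow] using bd_structure (k := k)
  | m + 1 => ((hM.tensorPow m).tensor hM).mono (by push_cast; ring_nf; rfl)

theorem finLocFree_line (a : ℤ) : FlatMod.IsFinLocFree (O1 k a) :=
  H28Pinch.isFinLocFree_of_isInvertible ((H10Coh.Stab.isTwistFamily_projSpace 1 k).inv a)

theorem isZero_tensor_left {X : Scheme.{u}} {M N : X.Modules} (h : IsZero M) : IsZero (CohB1.tensorMod M N) := by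
  haveI : (H29RR.twist N).Additive := inferInstanceAs ((DCoh.tensorBi (X := X)).flip.obj _).Additive
  exact (H29RR.twist N).map_isZero h

theorem isZero_tensor_right {X : Scheme.{u}} {M N : X.Modules} (h : IsZero N) : IsZero (CohB1.tensorMod M N) :=
  IsZero.of_iso (isZero_tensor_left h) (H10Coh.Tw.commIso M N)

/-- Degrees of exterior powers of sums of lines. -/
theorem bd_extPow_sum (c : ℤ) : ∀ {r : ℕ} (d : Fin r → ℤ), (∀ i, d i ≤ c) → ∀ (i : ℕ)
    (L : (CohB1.ProjSpace 1 k).Modules), ExtPow.IsExtPow i (∐ fun j => O1 k (d j)) L →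
      Bd k (i * c) L ∧ (i = r → Bd k (∑ j, d j) L) ∧ (r < i → IsZero L) := by
  intro r
  induction r with
  | zero =>
    intro d _ i L hL
    rcases Nat.eq_zero_or_pos i with rfl | hi
    · obtain ⟨e⟩ := H22Alg.ExtPowHom.nonempty_iso hL (H22Alg.KExists.isExtPow_zero _)
      refine ⟨?_, fun _ => ?_, fun h => absurd h (lt_irrefl _)⟩
      · simpa using bd_structure.of_iso e.symm
      · simpa using bd_structure.of_iso e.symm
    · obtain ⟨p, rfl⟩ := Nat.exists_eq_succ_of_ne_zero hi.ne'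
      have hz := H10Coh.ExtPowFree.isZero_extPow
        ((IsZero.iff_id_eq_zero _).2 (Sigma.hom_ext _ _ fun b => b.elim0)) hL
      exact ⟨bd_zero _ hz, fun h => absurd h (by omega), fun _ => hz⟩
  | succ r ih =>
    intro d hd i L hL
    let A := O1 k (d 0)
    let B := ∐ fun j : Fin r => O1 k (d j.succ)
    have hA : FlatMod.IsFinLocFree A := finLocFree_line _
    have hB : FlatMod.IsFinLocFree B := H16Derived.KFlat.Stalk.isFinLocFree_sigma _ fun j => finLocFree_line _
    have hAr : FlatMod.IsFinLocFreeOfRank 1 A :=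
      rank_one_of_isInvertible ((H10Coh.Stab.isTwistFamily_projSpace 1 k).inv _)
    have hq : ∀ {E : (CohB1.ProjSpace 1 k).Modules}, FlatMod.IsFinLocFree E → ∀ j, ∃ L, ExtPow.IsExtPow j E L :=
      fun hE j => H22Alg.ExtPowSheaf.exists_isExtPow j (H8Props.FinLocFree.isQCoh_of_isFinLocFree _ hE)
    choose LA hLA using hq hA
    choose LB hLB using hq hB
    obtain ⟨e⟩ : Nonempty (L ≅ ⨁ fun j : Fin (i + 1) => CohB1.tensorMod (LA j) (LB (i - j))) := by
      refine H22Alg.ExtPowSum.nonempty_iso_extPow_biprod hA hB ?_ LA LB hLA hLB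
      exact H22Alg.ExtPowSES.isExtPow_of_iso (consIso fun j => O1 k (d j)) hL
    have hih := ih (fun j => d j.succ) (fun j => hd j.succ)
    have h0 : Bd k 0 (LA 0) :=
      bd_structure.of_iso (H22Alg.ExtPowHom.nonempty_iso (H22Alg.KExists.isExtPow_zero A) (hLA 0)).some
    have h1 : Bd k (d 0) (LA 1) :=
      (bd_line (d 0)).of_iso (H22Alg.ExtPowHom.nonempty_iso (H22Alg.KExists.isExtPow_one A) (hLA 1)).some
    have hterm : ∀ j : Fin (i + 1), Bd k (i * c) (CohB1.tensorMod (LA j) (LB (i - j))) ∧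
        (i = r + 1 → Bd k (∑ j, d j) (CohB1.tensorMod (LA j) (LB (i - j)))) ∧
        (r + 1 < i → IsZero (CohB1.tensorMod (LA j) (LB (i - j)))) := by
      intro j
      rcases (show (j : ℕ) = 0 ∨ (j : ℕ) = 1 ∨ 2 ≤ (j : ℕ) by omega) with hj | hj | hj
      · rw [hj, Nat.sub_zero]
        refine ⟨by simpa using h0.tensor (hih i _ (hLB i)).1, fun hir => ?_,
          fun hir => isZero_tensor_right ((hih i _ (hLB i)).2.2 (by omega))⟩
        exact bd_zero _ (isZero_tensor_right ((hih i _ (hLB i)).2.2 (by omega)))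
      · rw [hj]
        have hi : 1 ≤ i := by have := j.2; omega
        refine ⟨(h1.tensor (hih (i - 1) _ (hLB (i - 1))).1).mono ?_, fun hir => ?_,
          fun hir => isZero_tensor_right ((hih (i - 1) _ (hLB (i - 1))).2.2 (by omega))⟩
        · have h := hd 0
          rw [Nat.cast_sub hi, Nat.cast_one]
          linarith
        · exact (h1.tensor ((hih (i - 1) _ (hLB (i - 1))).2.1 (by omega))).mono (Fin.sum_univ_succ d).ge
      · have hz : IsZero (CohB1.tensorMod (LA j) (LB (i - j))) :=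
          isZero_tensor_left (H22Alg.PB.isZero_extPow_of_gt hAr (hLA j) (by omega))
        exact ⟨bd_zero _ hz, fun _ => bd_zero _ hz, fun _ => hz⟩
    refine ⟨?_, fun hir => ?_, fun hir => ?_⟩
    · exact (Bd.sigma _ fun j => (hterm j).1).of_iso ((biproduct.isoCoproduct _).symm ≪≫ e.symm)
    · exact (Bd.sigma _ fun j => (hterm j).2.1 hir).of_iso ((biproduct.isoCoproduct _).symm ≪≫ e.symm)
    · refine IsZero.of_iso ((IsZero.iff_id_eq_zero _).2 ?_) e
      exact biproduct.hom_ext' _ _ fun j => ((hterm j).2.2 hir).eq_of_src _ _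

/-- A line of non-positive degree maps to the structure sheaf, not isomorphically if negative. -/
theorem exists_line_hom [IsAlgClosed k] {d : ℤ} (hd : d ≤ 0) :
    ∃ θ : O1 k d ⟶ Coh.structureModule (CohB1.ProjSpace 1 k), Mono θ ∧
      (d < 0 → ∃ q, ¬ Function.Surjective (H06Mod.stalkLin θ q)) := by
  haveI : IsProper (CohB1.ProjSpace 1 k ↘ Spec (CommRingCat.of k)) := H27Weil.isProper_toSpec 1 k
  haveI : Smooth (CohB1.ProjSpace 1 k ↘ Spec (CommRingCat.of k)) := H26Smooth.smooth_toSpec 1 k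
  obtain ⟨hint, -, hdim⟩ := H28Curve.projLine_facts k
  haveI := hint
  haveI := isNoetherian_of_proper (k := k) (X := CohB1.ProjSpace 1 k)
  have hT := H10Coh.Stab.isTwistFamily_projSpace 1 k
  obtain ⟨e1⟩ := hT.add (-d) d
  obtain ⟨e0⟩ := hT.zero
  haveI := nontrivial_h0_nonneg (k := k) (n := 1) (show 0 ≤ -d by omega)
  have hnt : Nontrivial (Coh.HH (CohB1.ProjSpace 1 k)
      (CohB1.tensorMod (Coh.structureModule _) (O1 k (-d))) 0) :=
    (hhIso (k := k) (H10Coh.Tw.leftUnitIso (O1 k (-d))) 0).toEquiv.nontrivial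
  obtain ⟨θ, hθ⟩ := exists_hom_of_section (hT.inv d)
    (e1 ≪≫ eqToIso (congrArg (O1 k) (neg_add_cancel d)) ≪≫ e0) hnt
  have hm : Mono θ := mono_of_invertible (k := k) hdim.le (hT.inv d)
    (rank_one_of_isInvertible H11Ample.isInvertible_structureModule) hθ
  refine ⟨θ, hm, fun hd' => ?_⟩
  by_contra hq
  push Not at hq
  haveI : IsIso θ := isIso_of_bijective_stalks θ fun q => ⟨H17.KoszTwist.stalk_injective_of_mono θ q, hq q⟩
  haveI := subsingleton_h0_neg (k := k) (n := 1) one_ne_zero hd'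
  have h1 := finrank_h0_zero (k := k) (n := 1)
  rw [(hhIso (k := k) (e0 ≪≫ (asIso θ).symm) 0).finrank_eq, Module.finrank_zero_of_subsingleton] at h1
  omega

end

end Groth.Agent.H29Free
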