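import Groth.Agent.H29Free.P1Deg
import Groth.Agent.H29Free.GeoDetect
import Groth.Agent.H02CA.Euler.Main
import Groth.Agent.H16Derived.ResData.Noeth
import Groth.Agent.H11Proj.SeparatesPoints
import Groth.Agent.H4Rel.Powers
import Groth.Agent.H22Alg.KModel
import Groth.Agent.H19AbSch.OmegaAbScheme

/-!
# Frames on the projective line and negative bundles along rational curves
-/

set_option autoImplicit false
set_option linter.style.haveILetI false
universe u

open CategoryTheory CategoryTheory.Limits AlgebraicGeometry TopologicalSpace Opposite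

namespace Groth.Agent.H29Free

open H29RR H29RR.PnPic

attribute [local instance 10000] H10Coh.hasSheafifyAb H10Coh.hasWeakSheafifyAb H10Coh.hasExtAb H10Coh.enoughInjAb
attribute [local instance] H29RR.PnPic.overSpec

noncomputable section

variable {k : Type u} [Field k]

/-- Bounds from vanishing of sections of a twist. -/
theorem bd_of_subsingleton {M : (CohB1.ProjSpace 1 k).Modules} (hM : FlatMod.IsFinLocFree M) (b : ℤ)
    (h : Subsingleton (Coh.HH (CohB1.ProjSpace 1 k) (CohB1.tensorMod M (O1 k b)) 0)) : Bd k (-b - 1) M := by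
  obtain ⟨hint, -, -⟩ := H28Curve.projLine_facts k
  haveI := hint
  obtain ⟨r, hr⟩ := H22Alg.KModel.exists_rank hM
  obtain ⟨d, -, ⟨e⟩⟩ := exists_splitting r M hr
  refine ⟨r, d, fun i => ?_, ⟨e⟩⟩
  by_contra hi
  push Not at hi
  obtain ⟨e'⟩ := nonempty_tensor_sum (n := 1) (k := k) d b
  haveI := h
  haveI : Subsingleton (Coh.HH (CohB1.ProjSpace 1 k) (∐ fun i => O1 k (d i + b)) 0) :=
    (hhIso (k := k) (PicGrp.tensorModIso e (Iso.refl _) ≪≫ e') 0).symm.toEquiv.subsingleton
  have hsum := (finrank_h0_sum (n := 1) (k := k) one_ne_zero fun i => d i + b).1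
  rw [Module.finrank_zero_of_subsingleton] at hsum
  have h0 := Finset.sum_eq_zero_iff.1 hsum.symm i (Finset.mem_univ i)
  haveI := nontrivial_h0_nonneg (k := k) (n := 1) (show 0 ≤ d i + b by omega)
  haveI := finite_hh (k := k) (n := 1) (d i + b) 0
  exact Module.finrank_pos.ne' h0

theorem bd_neg_of_subsingleton {M : (CohB1.ProjSpace 1 k).Modules} (hM : FlatMod.IsFinLocFree M)
    (h : Subsingleton (Coh.HH (CohB1.ProjSpace 1 k) M 0)) : Bd k (-1) M := by
  obtain ⟨e0⟩ := (H10Coh.Stab.isTwistFamily_projSpace 1 k).zero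
  haveI := h
  simpa using bd_of_subsingleton hM 0
    (hhIso (k := k) (PicGrp.tensorModIso (Iso.refl M) e0 ≪≫ H10Coh.Tw.rightUnitIso M) 0).toEquiv.subsingleton

/-- The differentials of the line are negative. -/
theorem bd_omega_line [QuasiSeparated (CohB1.ProjSpace.toSpec 1 k)] :
    Bd k (-1) (Omega.sheaf (CohB1.ProjSpace.toSpec 1 k)) := by
  haveI : Smooth (CohB1.ProjSpace.toSpec 1 k) := H26Smooth.smooth_toSpec 1 k
  refine bd_neg_of_subsingleton (H19AbSch.OmegaAbScheme.isFinLocFree_omega _) ?_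
  have hS := H02CA.Euler.eulerSeq_shortExact 1 k
  haveI : Mono (H02CA.Euler.eulerSeq 1 k).f := hS.mono_f
  haveI : Subsingleton (Coh.HH (CohB1.ProjSpace 1 k) (H02CA.Euler.eulerSeq 1 k).X₂ 0) := by
    rw [H02CA.Euler.eulerSeq_X₂]
    have hsum := finrank_h0_sum (n := 1) (k := k) one_ne_zero fun _ : Fin (1 + 1) => (-1 : ℤ)
    haveI := hsum.2
    have h1 := hsum.1
    haveI := subsingleton_h0_neg (k := k) (n := 1) one_ne_zero (show (-1 : ℤ) < 0 by omega)
    rw [Finset.sum_eq_zero fun i _ => Module.finrank_zero_of_subsingleton] at h1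
    exact Module.finrank_zero_iff.1 h1
  exact (hhlin_zero_injective (k := k) (H02CA.Euler.eulerSeq 1 k).f).subsingleton

/-- Surjective functionals stay surjective at generizations. -/
theorem surjective_ev_of_specializes {P : Scheme.{u}} {N : P.Modules} (Θ : N ⟶ Coh.structureModule P) {q z : P}
    (h : q ⤳ z) (hz : Function.Surjective (ev Θ z)) : Function.Surjective (ev Θ q) := by
  intro w
  obtain ⟨v, hv⟩ := hz 1
  refine ⟨w • N.presheaf.stalkSpecializes h v, ?_⟩
  rw [map_smul, ← ev_specializes Θ h v, hv, map_one, smul_eq_mul, mul_one]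

/-- Frames of bundles of non-positive degrees. -/
theorem exists_frames [IsAlgClosed k] {c : ℤ} {M : (CohB1.ProjSpace 1 k).Modules} (hM : Bd k c M) (hc : c ≤ 0) :
    ∃ (r : ℕ) (Θ : Fin r → (M ⟶ Coh.structureModule (CohB1.ProjSpace 1 k))), (∀ q, IsFrameAt Θ q) ∧
      (c < 0 → ∀ i, ∃ p : CohB1.ProjSpace 1 k, IsClosed ({p} : Set (CohB1.ProjSpace 1 k)) ∧
        ¬ Function.Surjective (ev (Θ i) p)) := by
  haveI : IsProper (CohB1.ProjSpace 1 k ↘ Spec (CommRingCat.of k)) := H27Weil.isProper_toSpec 1 k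
  obtain ⟨hint, -, -⟩ := H28Curve.projLine_facts k
  haveI := hint
  haveI := isNoetherian_of_proper (k := k) (X := CohB1.ProjSpace 1 k)
  haveI : JacobsonSpace ↥(CohB1.ProjSpace 1 k) :=
    LocallyOfFiniteType.jacobsonSpace (CohB1.ProjSpace 1 k ↘ Spec (CommRingCat.of k))
  obtain ⟨r, d, hd, ⟨e⟩⟩ := hM
  choose θ hθ hθ' using fun i => exists_line_hom (k := k) ((hd i).trans hc)
  haveI := hθ
  obtain ⟨Θ, hΘ, hsurj⟩ := exists_functionals (fun i => O1 k (d i))
    (fun i => (H10Coh.Stab.isTwistFamily_projSpace 1 k).inv _) θ e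
  refine ⟨r, Θ, hΘ, fun hc' i => ?_⟩
  obtain ⟨q, hq⟩ := hθ' i (lt_of_le_of_lt (hd i) hc')
  obtain ⟨z, hz, hzc⟩ := nonempty_inter_closedPoints (Z := closure ({q} : Set ↥(CohB1.ProjSpace 1 k)))
    ⟨q, subset_closure rfl⟩ isClosed_closure.isLocallyClosed
  exact ⟨z, hzc, fun hs => hq (hsurj i q (surjective_ev_of_specializes (Θ i) (specializes_iff_mem_closure.2 hz) hs))⟩

/-- A bundle whose pull-back to a rational curve is negative has no sections, if the differentials are non-positive. -/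
theorem subsingleton_of_bd [IsAlgClosed k] {X : Scheme.{u}} [X.Over (Spec (CommRingCat.of k))] [IsIntegral X]
    [Smooth (X ↘ Spec (CommRingCat.of k))] [IsProper (X ↘ Spec (CommRingCat.of k))]
    (f : CohB1.ProjSpace 1 k ⟶ X) (hf : f ≫ (X ↘ Spec (CommRingCat.of k)) = CohB1.ProjSpace.toSpec 1 k)
    (hΩ : Bd k 0 ((Scheme.Modules.pullback f).obj (Omega.sheaf (X ↘ Spec (CommRingCat.of k)))))
    {G : X.Modules} (hG : FlatMod.IsFinLocFree G) (hGf : Bd k (-1) ((Scheme.Modules.pullback f).obj G)) :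
    Subsingleton (Coh.HH X G 0) := by
  haveI : IsProper (CohB1.ProjSpace 1 k ↘ Spec (CommRingCat.of k)) := H27Weil.isProper_toSpec 1 k
  obtain ⟨hint, -, -⟩ := H28Curve.projLine_facts k
  haveI := hint
  obtain ⟨r, hr⟩ := H22Alg.KModel.exists_rank hG
  obtain ⟨a, ΘΩ, hΩ', -⟩ := exists_frames hΩ le_rfl
  obtain ⟨b, ΘG, hG', hneg⟩ := exists_frames hGf (by omega)
  have h0 : ∀ σ : Γ(G, ⊤), σ = 0 := eq_zero_of_frames k (H17.PrinOmega.isUniversal_dOmega _) G hr ΘΩ hΩ' ΘG hG'
    (hneg (by omega)) hf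
  exact ⟨fun x y => (sec G).injective ((h0 _).trans (h0 _).symm)⟩

/-- The pull-back of a power of an exterior power. -/
theorem bd_pullback_pow_extPow {X : Scheme.{u}} (f : CohB1.ProjSpace 1 k ⟶ X) {Ω E : X.Modules} {p : ℕ}
    (hΩ : FlatMod.IsFinLocFree Ω) (hE : ExtPow.IsExtPow p Ω E) {c : ℤ} (h : Bd k c ((Scheme.Modules.pullback f).obj Ω))
    (m : ℕ) : Bd k (m * (p * c)) ((Scheme.Modules.pullback f).obj (CohB1.tensorPow E m)) := by
  obtain ⟨r, d, hd, ⟨e⟩⟩ := h
  have hp := H22Alg.ExtPowHom.isExtPow_pullback f (H8Props.FinLocFree.isQCoh_of_isFinLocFree _ hΩ) hE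
  have h1 := (bd_extPow_sum c d hd p _ (H22Alg.ExtPowSES.isExtPow_of_iso e hp)).1
  obtain ⟨e'⟩ := H4Rel.nonempty_pullback_tensorPow f E m
  exact (h1.tensorPow m).of_iso e'.symm

end

end Groth.Agent.H29Free
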